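import Groth.Agent.ProjTwist.Invertible
import Groth.Agent.GrBasics.Monomial
import Groth.Prelude.Def_ProjUP
import Mathlib.Algebra.Category.ModuleCat.Stalk

/-!
# Global sections generating `O(n)`
-/

set_option autoImplicit false
universe u
open CategoryTheory CategoryTheory.Limits AlgebraicGeometry Opposite TopologicalSpace

namespace Groth.Agent.ProjTwist

set_option synthInstance.maxHeartbeats 400000
set_option maxHeartbeats 1600000

section general

variable {X : Scheme.{u}} {ι : Type*}

/-- Sections `s i` locally span every section. -/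
def LocSpan (L : X.Modules) (s : ι → Γ(L, ⊤)) : Prop :=
  ∀ (U : X.Opens) (t : Γ(L, U)) (x : X), x ∈ U → ∃ (V : X.Opens) (h : V ≤ U), x ∈ V ∧
    L.presheaf.map (homOfLE h).op t ∈
      Submodule.span Γ(X, V) (Set.range fun i => L.presheaf.map (homOfLE (le_top : V ≤ ⊤)).op (s i))

/-- Locally spanning sections generate all stalks. -/
theorem generatedBy_of_locSpan (L : X.Modules) (s : ι → ProjUP.Γm L) (h : LocSpan L s) :
    ProjUP.GeneratedBy L s := by
  intro x
  rw [eq_top_iff]
  rintro t -
  obtain ⟨U, hxU, t', rfl⟩ := TopCat.Presheaf.exists_germ_eq L.presheaf t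
  obtain ⟨V, hVU, hxV, hmem⟩ := h U t' x hxU
  have key : ∀ w ∈ Submodule.span Γ(X, V)
      (Set.range fun i => L.presheaf.map (homOfLE (le_top : V ≤ ⊤)).op (s i)),
      (L.presheaf.germ V x hxV).hom w ∈ Submodule.span (X.presheaf.stalk x)
        (Set.range fun i => (L.presheaf.germ ⊤ x trivial).hom (s i)) := by
    intro w hw
    induction hw using Submodule.span_induction with
    | mem w hw =>
      obtain ⟨i, rfl⟩ := hw
      refine Submodule.subset_span ⟨i, ?_⟩
      exact (TopCat.Presheaf.germ_res_apply L.presheaf (homOfLE (le_top : V ≤ ⊤)) x hxV (s i)).symm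
    | zero => rw [map_zero]; exact Submodule.zero_mem _
    | add a b _ _ ha hb => rw [map_add]; exact Submodule.add_mem _ ha hb
    | smul c a _ ha =>
      have e : (L.presheaf.germ V x hxV).hom (c • a) =
          X.presheaf.germ V x hxV c • (L.presheaf.germ V x hxV).hom a :=
        PresheafOfModules.germ_smul (R := X.presheaf)
          (show PresheafOfModules (X.presheaf ⋙ forget₂ CommRingCat RingCat) from L.val) x V hxV c a
      rw [e]
      exact Submodule.smul_mem _ _ ha
  have h2 := key _ hmem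
  have e := TopCat.Presheaf.germ_res_apply L.presheaf (homOfLE hVU) x hxV t'
  exact e ▸ h2

/-- The morphism `𝒪 ⟶ L` of a global section. -/
noncomputable def globalHom (L : X.Modules) (σ : Γ(L, ⊤)) : Coh.structureModule X ⟶ L :=
  (SheafOfModules.unitHomEquiv L).symm
    (PresheafOfModules.sectionsMk (M := L.val)
      (fun V => L.presheaf.map (homOfLE (le_top (a := V.unop))).op σ)
      (fun {V W} f => by
        change L.presheaf.map _ (L.presheaf.map _ σ) = L.presheaf.map _ σ
        rw [← ConcreteCategory.comp_apply, ← Functor.map_comp]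
        rfl))

theorem globalHom_app (L : X.Modules) (σ : Γ(L, ⊤)) (V : X.Opens) (r : Γ(X, V)) :
    (globalHom L σ).app V r = r • L.presheaf.map (homOfLE (le_top : V ≤ ⊤)).op σ := rfl

/-- Locally spanning sections give an epimorphism from a free module. -/
theorem exists_epi_of_locSpan {k : ℕ} (L : X.Modules) (s : Fin k → Γ(L, ⊤)) (h : LocSpan L s) :
    ∃ p : FlatMod.freeMod X k ⟶ L, Epi p := by
  refine ⟨Sigma.desc fun i => globalHom L (s i), ⟨fun {T} g g' hgg => ?_⟩⟩
  have hi : ∀ i, globalHom L (s i) ≫ g = globalHom L (s i) ≫ g' := fun i => by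
    simpa using congrArg (fun q => Sigma.ι (fun _ : Fin k => Coh.structureModule X) i ≫ q) hgg
  have happ : ∀ (V : X.Opens) (i : Fin k),
      g.app V (L.presheaf.map (homOfLE (le_top : V ≤ ⊤)).op (s i)) =
        g'.app V (L.presheaf.map (homOfLE (le_top : V ≤ ⊤)).op (s i)) := fun V i => by
    have e := congrArg (fun q : Coh.structureModule X ⟶ T => q.app V (1 : Γ(X, V))) (hi i)
    change g.app V ((globalHom L (s i)).app V (1 : Γ(X, V))) =
      g'.app V ((globalHom L (s i)).app V (1 : Γ(X, V))) at e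
    rwa [globalHom_app, one_smul] at e
  apply Scheme.Modules.hom_ext
  intro U
  ext t
  refine TopCat.Presheaf.section_ext (⟨T.presheaf, Scheme.Modules.isSheaf T⟩ : TopCat.Sheaf Ab X) U _ _ ?_
  intro x hx
  obtain ⟨V, hVU, hxV, hmem⟩ := h U t x hx
  have key : ∀ w ∈ Submodule.span Γ(X, V)
      (Set.range fun i => L.presheaf.map (homOfLE (le_top : V ≤ ⊤)).op (s i)), g.app V w = g'.app V w := by
    intro w hw
    induction hw using Submodule.span_induction with
    | mem w hw => obtain ⟨i, rfl⟩ := hw; exact happ V i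
    | zero => rw [map_zero, map_zero]
    | add a b _ _ ha hb => rw [map_add, map_add, ha, hb]
    | smul c a _ ha => rw [Scheme.Modules.Hom.app_smul, Scheme.Modules.Hom.app_smul, ha]
  have e1 := ConcreteCategory.congr_hom (g.mapPresheaf.naturality (homOfLE hVU).op) t
  have e2 := ConcreteCategory.congr_hom (g'.mapPresheaf.naturality (homOfLE hVU).op) t
  change (T.presheaf.germ U x hx).hom (g.app U t) = (T.presheaf.germ U x hx).hom (g'.app U t)
  exact ((TopCat.Presheaf.germ_res_apply T.presheaf (homOfLE hVU) x hxV (g.app U t)).symm.trans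
    (congrArg _ ((e1.symm.trans (key _ hmem)).trans e2))).trans
    (TopCat.Presheaf.germ_res_apply T.presheaf (homOfLE hVU) x hxV (g'.app U t))

end general

variable {R A : Type u} [CommRing R] [CommRing A] [Algebra R A] (𝒜 : ℕ → Submodule R A) [GradedAlgebra 𝒜]
variable {ι : Type*} {n : ℕ}

/-- Criterion for the sections `b i / 1` to span `O(n)` locally. -/
theorem locSpan_globalOf (b : ι → 𝒜 n)
    (h : ∀ (x : ProjectiveSpectrum 𝒜) (i j : ℕ) (a : 𝒜 i) (s : 𝒜 j), s.1 ∉ x.asHomogeneousIdeal → i = j + n →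
      ∃ (e : ℕ) (q : 𝒜 e), q.1 ∉ x.asHomogeneousIdeal ∧
        q.1 * a.1 ∈ 𝒜 (e + j) * Submodule.span R (Set.range fun k => (b k : A))) :
    LocSpan (Twist.twist 𝒜 (n : ℤ)) (fun k => (Twist.globalOf 𝒜 (b k) : ProjUP.Γm (Twist.twist 𝒜 (n : ℤ)))) := by
  intro U t x hx
  obtain ⟨V₀, hxV₀, ι', i, j, a, s, hs, hdeg, hw⟩ := t.2 ⟨x, hx⟩
  replace hdeg : (i : ℤ) = j + n ∨ a.1 = 0 := hdeg
  rcases hdeg with hdeg | hdeg
  · obtain ⟨e, q, hq, hmem⟩ := h x i j a s (hs ⟨x, hxV₀⟩) (by omega)
    let V : (Proj 𝒜).Opens := V₀ ⊓ Proj.basicOpen 𝒜 q.1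
    have hVU : V ≤ U := inf_le_left.trans (leOfHom ι')
    refine ⟨V, hVU, ⟨hxV₀, hq⟩, ?_⟩
    let sn := Submodule.span Γ(Proj 𝒜, V) (Set.range fun k =>
      (Twist.twist 𝒜 (n : ℤ)).presheaf.map (homOfLE (le_top : V ≤ ⊤)).op
        (Twist.globalOf 𝒜 (b k) : ProjUP.Γm (Twist.twist 𝒜 (n : ℤ))))
    have hden : ∀ y : V, q.1 * s.1 ∉ y.1.asHomogeneousIdeal := fun y hc =>
      (y.1.isPrime.mem_or_mem hc).elim y.2.2 (hs ⟨y.1, y.2.1⟩)
    -- fractions with numerators in the product are in the span
    have key : ∀ v ∈ 𝒜 (e + j) * Submodule.span R (Set.range fun k => (b k : A)),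
        ∃ w ∈ sn, ∀ y : V, ((show Twist.sectN (𝒜 := 𝒜) (n : ℤ) (op V) from w).1 y).1 =
          Localization.mk v ⟨q.1 * s.1, hden y⟩ := by
      intro v hv
      induction hv using Submodule.mul_induction_on' with
      | mem_mul_mem p hp c hc =>
        induction hc using Submodule.span_induction generalizing p with
        | mem c hc =>
          obtain ⟨k, rfl⟩ := hc
          let r : Twist.O (𝒜 := 𝒜) (op V) :=
            ⟨fun y => HomogeneousLocalization.mk ⟨e + j, ⟨p, hp⟩, ⟨_, SetLike.mul_mem_graded q.2 s.2⟩, hden y⟩,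
              fun y => ⟨V, y.2, 𝟙 _, e + j, ⟨p, hp⟩, ⟨_, SetLike.mul_mem_graded q.2 s.2⟩,
                fun z => hden z, fun z => rfl⟩⟩
          refine ⟨(show Γ(Proj 𝒜, V) from r) • _, Submodule.smul_mem _ _ (Submodule.subset_span ⟨k, rfl⟩),
            fun y => ?_⟩
          refine (smulT_val r _ y).trans ?_
          rw [HomogeneousLocalization.val_mk]
          refine (Localization.mk_mul _ _ _ _).trans ?_
          congr 1
          exact Subtype.ext (mul_one _)
        | zero => exact ⟨0, Submodule.zero_mem _, fun y => by rw [mul_zero, Localization.mk_zero]; rfl⟩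
        | add c c' _ _ hc hc' =>
          obtain ⟨w, hw1, hw2⟩ := hc p hp
          obtain ⟨w', hw1', hw2'⟩ := hc' p hp
          refine ⟨w + w', Submodule.add_mem _ hw1 hw1', fun y => ?_⟩
          refine (congrArg₂ (· + ·) (hw2 y) (hw2' y)).trans ?_
          rw [mul_add, Localization.add_mk_self]
        | smul r c _ hc =>
          obtain ⟨w, hw1, hw2⟩ := hc (r • p) (Submodule.smul_mem _ r hp)
          exact ⟨w, hw1, fun y => by rw [hw2 y, mul_smul_comm, smul_mul_assoc]⟩
      | add v hv v' hv' h1 h2 =>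
        obtain ⟨w, hw1, hw2⟩ := h1
        obtain ⟨w', hw1', hw2'⟩ := h2
        refine ⟨w + w', Submodule.add_mem _ hw1 hw1', fun y => ?_⟩
        refine (congrArg₂ (· + ·) (hw2 y) (hw2' y)).trans ?_
        rw [Localization.add_mk_self]
    obtain ⟨w, hw1, hw2⟩ := key _ hmem
    convert hw1 using 1
    refine sectN_ext fun y => ?_
    refine (hw ⟨y.1, y.2.1⟩).trans ((hw2 y).trans ?_).symm
    rw [Localization.mk_eq_mk_iff, Localization.r_iff_exists]
    exact ⟨1, by simp; ring⟩
  · refine ⟨V₀, leOfHom ι', hxV₀, ?_⟩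
    convert Submodule.zero_mem _ using 1
    refine sectN_ext fun y => (hw y).trans ?_
    rw [hdeg, Localization.mk_zero]
    rfl

/-- If some `b i` is nonzero at each point, they span. -/
theorem locSpan_globalOf_of_cover (b : ι → 𝒜 n)
    (h : ∀ x : ProjectiveSpectrum 𝒜, ∃ k, (b k : A) ∉ x.asHomogeneousIdeal) :
    LocSpan (Twist.twist 𝒜 (n : ℤ)) (fun k => (Twist.globalOf 𝒜 (b k) : ProjUP.Γm (Twist.twist 𝒜 (n : ℤ)))) :=
  locSpan_globalOf 𝒜 b fun x i j a s _ hij => by
    obtain ⟨k, hk⟩ := h x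
    refine ⟨n, b k, hk, ?_⟩
    rw [mul_comm (b k : A)]
    exact Submodule.mul_mem_mul (by rw [add_comm, ← hij]; exact a.2) (Submodule.subset_span ⟨k, rfl⟩)

theorem notMem_one (x : ProjectiveSpectrum 𝒜) : (1 : A) ∉ x.asHomogeneousIdeal :=
  fun h => x.isPrime.ne_top ((Ideal.eq_top_iff_one _).mpr h)

/-- A degree-zero fraction is a value of the homogeneous localization. -/
theorem exists_val_of_mem_twistAt_zero {x : ProjectiveSpectrum 𝒜} {v : Twist.Loc 𝒜 x}
    (hv : v ∈ Twist.twistAt 𝒜 0 x) : ∃ c : Twist.A0 𝒜 x, c.val = v := by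
  induction hv using Submodule.span_induction with
  | mem v hv =>
    obtain ⟨i, j, a, s, hs, hij, rfl⟩ := hv
    obtain rfl : i = j := by omega
    exact ⟨HomogeneousLocalization.mk ⟨i, a, s, hs⟩, HomogeneousLocalization.val_mk _⟩
  | zero => exact ⟨0, HomogeneousLocalization.val_zero⟩
  | add a b _ _ ha hb =>
    obtain ⟨c, rfl⟩ := ha
    obtain ⟨c', rfl⟩ := hb
    exact ⟨c + c', HomogeneousLocalization.val_add c c'⟩
  | smul r a _ ha =>
    obtain ⟨c, rfl⟩ := ha
    exact ⟨r * c, by rw [HomogeneousLocalization.val_mul, Algebra.smul_def, HomogeneousLocalization.algebraMap_apply]⟩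

end Groth.Agent.ProjTwist
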