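import Groth.Agent.ProjTwist.Frac
import Groth.Agent.ProjTwist.Generated
import Groth.Agent.QCohLib.Closure
import Mathlib.RingTheory.Localization.AtPrime.Basic

/-!
# `M(n)~` is quasi-coherent
-/

set_option autoImplicit false
universe u
open CategoryTheory CategoryTheory.Limits AlgebraicGeometry Opposite TopologicalSpace

namespace Groth.Agent.ProjTwist

section criterion

set_option backward.isDefEq.respectTransparency false

/-- The localisation properties on the opens of an affine cover give quasi-coherence. -/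
theorem isQuasicoherent_of_cover_sections {X : Scheme.{u}} (L : X.Modules) {ι : Type u}
    (W : ι → X.affineOpens) (hcov : ∀ x : X, ∃ i, x ∈ (W i).1)
    (h₁ : ∀ (i : ι) (f : Γ(X, (W i).1)) (x : Γ(L, (W i).1)),
      L.presheaf.map (homOfLE (X.basicOpen_le f)).op x = 0 → ∃ n : ℕ, f ^ n • x = 0)
    (h₂ : ∀ (i : ι) (f : Γ(X, (W i).1)) (s : Γ(L, X.basicOpen f)),
      ∃ (n : ℕ) (x : Γ(L, (W i).1)), L.presheaf.map (homOfLE (X.basicOpen_le f)).op x =
        (X.presheaf.map (homOfLE (X.basicOpen_le f)).op f) ^ n • s) :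
    L.IsQuasicoherent := by
  refine QCohLib.isQuasicoherent_of_cover (fun i => (W i).2.fromSpec) (fun x => ?_) (fun i => ?_)
  · obtain ⟨i, hi⟩ := hcov x
    exact ⟨i, by rw [(W i).2.opensRange_fromSpec]; exact hi⟩
  rw [isQuasicoherent_iff_isIso_fromTildeΓ, isIso_fromTildeΓ_iff_isLocalizing]
  intro f
  have hTU : (W i).2.fromSpec ''ᵁ ⊤ ≤ (W i).1 := QCohLib.fromSpec_image_le (W i).2 ⊤
  have hUT : (W i).1 ≤ (W i).2.fromSpec ''ᵁ ⊤ := (QCohLib.fromSpec_image_top (W i).2).ge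
  let D' : (Spec Γ(X, (W i).1)).Opens := PrimeSpectrum.basicOpen f
  have hD' : (W i).2.fromSpec ''ᵁ D' = X.basicOpen f := (W i).2.fromSpec_image_basicOpen f
  refine IsLocalizedModule.Away.mk_of_addCommGroup ?_ ?_ ?_
  · exact Scheme.Modules.isUnit_algebraMap_end_of_le_basicOpen f le_rfl
  · intro s
    let s' : Γ(L, X.basicOpen f) :=
      L.presheaf.map (homOfLE hD'.ge).op ((L.restrictAppIso (W i).2.fromSpec D').hom s)
    obtain ⟨n, x, hx⟩ := h₂ i f s'
    let y : Γ(QCohLib.onSpec L (W i).2, ⊤) := L.presheaf.map (homOfLE hTU).op x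
    refine ⟨n, y, ?_⟩
    apply (ConcreteCategory.bijective_of_isIso (L.restrictAppIso (W i).2.fromSpec D').hom).1
    have h3 := congrArg (L.presheaf.map (homOfLE hD'.le).op) hx
    rw [QCohLib.map_map, Scheme.Modules.map_smul, QCohLib.map_map, QCohLib.map_self, map_pow,
      QCohLib.ring_map_map] at h3
    refine (QCohLib.restrictAppIso_smul L (W i).2 D' (f ^ n) s).trans ?_
    rw [map_pow]
    refine h3.symm.trans ?_
    exact (QCohLib.map_map L ((W i).2.fromSpec.image_mono le_top) hTU x).symm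
  · intro x hx
    let x' : Γ(L, (W i).1) :=
      L.presheaf.map (homOfLE hUT).op ((L.restrictAppIso (W i).2.fromSpec ⊤).hom x)
    obtain ⟨n, hn⟩ := h₁ i f x' (by
      have h4 := congrArg (L.restrictAppIso (W i).2.fromSpec D').hom hx
      rw [map_zero] at h4
      change L.presheaf.map (homOfLE ((W i).2.fromSpec.image_mono le_top)).op
        ((L.restrictAppIso (W i).2.fromSpec ⊤).hom x) = 0 at h4
      rw [QCohLib.map_map, ← QCohLib.map_map L hD'.ge ((W i).2.fromSpec.image_mono le_top), h4, map_zero])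
    refine ⟨n, ?_⟩
    apply (ConcreteCategory.bijective_of_isIso (L.restrictAppIso (W i).2.fromSpec ⊤).hom).1
    have h5 := congrArg (L.presheaf.map (homOfLE hTU).op) hn
    rw [map_zero, Scheme.Modules.map_smul, QCohLib.map_map, QCohLib.map_self] at h5
    rw [QCohLib.restrictAppIso_smul, map_zero]
    exact h5

end criterion

set_option synthInstance.maxHeartbeats 400000
set_option maxHeartbeats 1600000

variable {R A : Type u} [CommRing R] [CommRing A] [Algebra R A] (𝒜 : ℕ → Submodule R A) [GradedAlgebra 𝒜]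
variable {M : Type u} [AddCommGroup M] [Module R M] [Module A M] [IsScalarTower R A M]
  (ℳ : ℕ → Submodule R M) [DirectSum.Decomposition ℳ] [SetLike.GradedSMul 𝒜 ℳ]

/-- A regular function on `D₊(f)` is `a / f^k`, and its non-vanishing locus is `D₊(fa)`. -/
theorem exists_frac_regular {d : ℕ} (hd : 0 < d) {f : A} (hf : f ∈ 𝒜 d) (c : Γ(Proj 𝒜, Proj.basicOpen 𝒜 f)) :
    ∃ (k : ℕ) (a : A), a ∈ 𝒜 (k * d) ∧ (Proj 𝒜).basicOpen c = Proj.basicOpen 𝒜 (f * a) ∧
      ∀ (x : ProjectiveSpectrum 𝒜) (hx : f ∉ x.asHomogeneousIdeal),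
        ((c.1 ⟨x, hx⟩).val : Twist.Loc 𝒜 x) =
          Localization.mk a (⟨f ^ k, fun h => hx (x.isPrime.mem_of_pow_mem k h)⟩ :
            x.asHomogeneousIdeal.toIdeal.primeCompl) := by
  let D : (Proj 𝒜).Opens := Proj.basicOpen 𝒜 f
  let q : Twist.sectN (𝒜 := 𝒜) 0 (op D) :=
    (show Twist.O (𝒜 := 𝒜) (op D) from c) •
      fracSect D (⟨1, SetLike.GradedOne.one_mem⟩ : 𝒜 0) (⟨1, SetLike.GradedOne.one_mem⟩ : 𝒜 0)
        (fun x => notMem_one 𝒜 x.1) (by simp)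
  obtain ⟨k, i, a, ha, hi, hq⟩ := exists_frac_basicOpen 𝒜 𝒜 0 hd hf q
  obtain rfl : i = k * d := by omega
  have hval : ∀ (x : ProjectiveSpectrum 𝒜) (hx : f ∉ x.asHomogeneousIdeal),
      ((c.1 ⟨x, hx⟩).val : Twist.Loc 𝒜 x) =
        Localization.mk a (⟨f ^ k, fun h => hx (x.isPrime.mem_of_pow_mem k h)⟩ :
            x.asHomogeneousIdeal.toIdeal.primeCompl) := by
    intro x hx
    refine Eq.trans ?_ (hq x hx)
    refine Eq.trans ?_ (smulT_val (show Twist.O (𝒜 := 𝒜) (op D) from c) _ ⟨x, hx⟩).symm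
    exact ((congrArg _ (Localization.mk_self (⟨1, notMem_one 𝒜 x⟩ :
      x.asHomogeneousIdeal.toIdeal.primeCompl))).trans (mul_one _)).symm
  refine ⟨k, a, ha, ?_, hval⟩
  ext x
  constructor
  · intro hx
    have hxD : x ∈ D := (Proj 𝒜).basicOpen_le c hx
    have h1 := (((Scheme.mem_basicOpen (Proj 𝒜) c x hxD).mp hx).map
      (Proj.stalkIso' 𝒜 x).toRingHom)
    erw [Proj.stalkIso'_germ] at h1
    rw [← HomogeneousLocalization.isUnit_iff_isUnit_val] at h1
    erw [hval x hxD, Localization.mk_eq_mk', IsLocalization.AtPrime.isUnit_mk'_iff] at h1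
    exact fun hc => (x.isPrime.mem_or_mem hc).elim hxD h1
  · intro hx
    have hxD : x ∈ D := fun hc => hx (Ideal.mul_mem_right _ _ hc)
    have hax : a ∉ x.asHomogeneousIdeal := fun hc => hx (Ideal.mul_mem_left _ _ hc)
    refine (Scheme.mem_basicOpen (Proj 𝒜) c x hxD).mpr ?_
    refine (MulEquiv.isUnit_map (Proj.stalkIso' 𝒜 x)).mp ?_
    erw [Proj.stalkIso'_germ]
    rw [← HomogeneousLocalization.isUnit_iff_isUnit_val]
    erw [hval x hxD, Localization.mk_eq_mk', IsLocalization.AtPrime.isUnit_mk'_iff]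
    exact hax

/-- `M(n)~` is quasi-coherent. -/
theorem isQuasicoherent_tilde (n : ℤ) : (GrTilde.tilde 𝒜 ℳ n).IsQuasicoherent := by
  let ι : Type u := (d : {d : ℕ // 0 < d}) × 𝒜 d.1
  let W : ι → (Proj 𝒜).affineOpens := fun s =>
    ⟨Proj.basicOpen 𝒜 (s.2 : A), Proj.isAffineOpen_basicOpen 𝒜 _ s.2.2 s.1.2⟩
  refine isQuasicoherent_of_cover_sections _ W (fun x => ?_) (fun s c t ht => ?_) (fun s c t => ?_)
  · classical
    by_contra hc
    push Not at hc
    refine x.not_irrelevant_le fun a ha => ?_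
    rw [← DirectSum.sum_support_decompose 𝒜 a]
    refine Ideal.sum_mem _ fun i _ => ?_
    rcases Nat.eq_zero_or_pos i with rfl | hi
    · rw [(GradedRing.proj_apply (𝒜 := 𝒜) 0 a).symm.trans
        ((HomogeneousIdeal.mem_irrelevant_iff 𝒜 a).mp ha)]
      exact Submodule.zero_mem _
    · exact not_not.mp (hc ⟨⟨i, hi⟩, DirectSum.decompose 𝒜 a i⟩)
  · obtain ⟨⟨d, hd⟩, ⟨f, hf⟩⟩ := s
    obtain ⟨k, a, ha, hD, hc⟩ := exists_frac_regular 𝒜 hd hf c
    have hfa : f * a ∈ 𝒜 (d + k * d) := SetLike.mul_mem_graded hf ha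
    let t' : GrTilde.sect 𝒜 ℳ n (op (ProjectiveSpectrum.basicOpen 𝒜 f)) := t
    obtain ⟨p, i, m, hm, hi, ht'⟩ := exists_frac_basicOpen 𝒜 ℳ n hd hf t'
    obtain ⟨N, hN⟩ := Groth.Agent.S3587.result 𝒜 ℳ (Nat.add_pos_left hd _) hfa 0 i ⟨m, hm⟩ (by
      rintro ⟨x, hx⟩
      have hxf : f ∉ x.asHomogeneousIdeal := fun h => hx (Ideal.mul_mem_right _ _ h)
      have hxD : x ∈ (Proj 𝒜).basicOpen c := hD ▸ hx
      have h0 : (t'.1 ⟨x, hxf⟩).1 = 0 :=
        congrArg (fun v : GrTilde.sect 𝒜 ℳ n (op ((Proj 𝒜).basicOpen c)) => (v.1 ⟨x, hxD⟩).1) ht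
      rw [ht' x hxf, ← LocalizedModule.zero_mk (S := x.asHomogeneousIdeal.toIdeal.primeCompl) 1,
        LocalizedModule.mk_eq] at h0
      rw [← LocalizedModule.zero_mk (S := x.asHomogeneousIdeal.toIdeal.primeCompl) 1, LocalizedModule.mk_eq]
      obtain ⟨u, hu⟩ := h0
      exact ⟨u, by simpa [Submonoid.smul_def] using hu⟩)
    refine ⟨N, sect_ext (𝒜 := 𝒜) (ℳ := ℳ) fun (x : ProjectiveSpectrum.basicOpen 𝒜 f) => ?_⟩
    refine (smul_val (show Twist.O (𝒜 := 𝒜) (op (ProjectiveSpectrum.basicOpen 𝒜 f)) from c ^ N) t' x).trans ?_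
    have hpow : ((show Twist.O (𝒜 := 𝒜) (op (ProjectiveSpectrum.basicOpen 𝒜 f)) from c ^ N).1 x).val =
        (c.1 ⟨x.1, x.2⟩).val ^ N := HomogeneousLocalization.val_pow (c.1 ⟨x.1, x.2⟩) N
    have hx' : (t'.1 x).1 = LocalizedModule.mk m
        (⟨f ^ p, fun h => x.2 (x.1.isPrime.mem_of_pow_mem p h)⟩ :
          x.1.asHomogeneousIdeal.toIdeal.primeCompl) := ht' x.1 x.2
    rw [hpow, hc x.1 x.2, hx']
    erw [Localization.mk_pow, LocalizedModule.mk_smul_mk]
    show _ = (0 : GrTilde.LocMod 𝒜 (M := M) x.1)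
    rw [← LocalizedModule.zero_mk (S := x.1.asHomogeneousIdeal.toIdeal.primeCompl) 1, LocalizedModule.mk_eq]
    refine ⟨⟨f ^ N, fun h => x.2 (x.1.isPrime.mem_of_pow_mem N h)⟩, ?_⟩
    simp only [Submonoid.smul_def, one_smul, smul_zero, smul_smul]
    rw [← mul_pow]
    exact hN
  · obtain ⟨⟨d, hd⟩, ⟨f, hf⟩⟩ := s
    obtain ⟨k, a, ha, hD, hc⟩ := exists_frac_regular 𝒜 hd hf c
    have hfa : f * a ∈ 𝒜 (d + k * d) := SetLike.mul_mem_graded hf ha
    have hle : Proj.basicOpen 𝒜 (f * a) ≤ (Proj 𝒜).basicOpen c := hD.ge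
    let t' : GrTilde.sect 𝒜 ℳ n (op (ProjectiveSpectrum.basicOpen 𝒜 (f * a))) :=
      (GrTilde.tilde 𝒜 ℳ n).presheaf.map (homOfLE hle).op t
    obtain ⟨p, i, m, hm, hi, ht'⟩ := exists_frac_basicOpen 𝒜 ℳ n (Nat.add_pos_left hd _) hfa t'
    have hfk : f ^ (k * p + p) ∈ 𝒜 ((k * p + p) * d) := by
      simpa [smul_eq_mul] using SetLike.pow_mem_graded (k * p + p) hf
    let x₀ : GrTilde.sect 𝒜 ℳ n (op (ProjectiveSpectrum.basicOpen 𝒜 f)) :=
      ⟨fun y => ⟨LocalizedModule.mk m ⟨f ^ (k * p + p), fun h => y.2 (y.1.isPrime.mem_of_pow_mem _ h)⟩,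
          mk_mem_tildeAt hm hfk _ (by push_cast at hi ⊢; linarith)⟩,
        fun y => ⟨_, y.2, 𝟙 _, i, (k * p + p) * d, ⟨m, hm⟩, ⟨_, hfk⟩,
          fun z h => z.2 (z.1.isPrime.mem_of_pow_mem _ h),
          Or.inl (by push_cast at hi ⊢; linarith), fun z => rfl⟩⟩
    refine ⟨p, x₀, sect_ext (𝒜 := 𝒜) (ℳ := ℳ) fun y => ?_⟩
    revert y
    rintro ⟨(y₁ : ProjectiveSpectrum 𝒜), hy₁⟩
    let y : {z : ProjectiveSpectrum 𝒜 // z ∈ (Proj 𝒜).basicOpen c} := ⟨y₁, hy₁⟩
    have hy : y.1 ∈ Proj.basicOpen 𝒜 (f * a) := hD ▸ y.2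
    refine Eq.trans ?_ (smul_val (U := (Proj 𝒜).basicOpen c)
      (show Twist.O (𝒜 := 𝒜) (op ((Proj 𝒜).basicOpen c)) from
        ((Proj 𝒜).presheaf.map (homOfLE ((Proj 𝒜).basicOpen_le c)).op c) ^ p) t y).symm
    have hyf : f ∉ y.1.asHomogeneousIdeal := fun h => hy (Ideal.mul_mem_right _ _ h)
    have hpow : ((show Twist.O (𝒜 := 𝒜) (op ((Proj 𝒜).basicOpen c)) from
        ((Proj 𝒜).presheaf.map (homOfLE ((Proj 𝒜).basicOpen_le c)).op c) ^ p).1 y).val =
        (c.1 ⟨y.1, hyf⟩).val ^ p := HomogeneousLocalization.val_pow (c.1 ⟨y.1, hyf⟩) p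
    have hty : (t.1 y).1 = LocalizedModule.mk m
        (⟨(f * a) ^ p, fun h => hy (y.1.isPrime.mem_of_pow_mem p h)⟩ :
          y.1.asHomogeneousIdeal.toIdeal.primeCompl) := ht' y.1 hy
    rw [hpow, hc y.1 hyf, hty]
    erw [Localization.mk_pow, LocalizedModule.mk_smul_mk]
    show LocalizedModule.mk m _ = _
    rw [LocalizedModule.mk_eq]
    refine ⟨1, ?_⟩
    simp only [Submonoid.smul_def, Submonoid.coe_mul, SubmonoidClass.coe_pow, one_smul,
      smul_smul]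
    congr 1
    ring

end Groth.Agent.ProjTwist
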