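import Groth.Agent.ProjTwist.Tensor
import Groth.Agent.GrBasics.Core
import Mathlib.Algebra.GCDMonoid.Finset

/-!
# Invertibility of the twists: covers and powers
-/

set_option autoImplicit false
universe u
open CategoryTheory AlgebraicGeometry Opposite TopologicalSpace DirectSum

namespace Groth.Agent.ProjTwist

set_option synthInstance.maxHeartbeats 400000
set_option maxHeartbeats 1600000

variable {R A : Type u} [CommRing R] [CommRing A] [Algebra R A] (𝒜 : ℕ → Submodule R A) [GradedAlgebra 𝒜]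

/-- Some of a family of positive-degree algebra generators is nonzero at each point. -/
theorem exists_generator_notMem {ι : Type*} (f : ι → A) (deg : ι → ℕ) (hdeg : ∀ i, 0 < deg i)
    (hf : ∀ i, f i ∈ 𝒜 (deg i)) (hgen : Algebra.adjoin R (Set.range f) = ⊤) (x : ProjectiveSpectrum 𝒜) :
    ∃ i, f i ∉ x.asHomogeneousIdeal := by
  by_contra hc
  push Not at hc
  have h0 : Algebra.adjoin (𝒜 0) (Set.range f) = ⊤ := by
    refine Algebra.eq_top_iff.mpr fun a => ?_
    have ha : a ∈ Algebra.adjoin R (Set.range f) := hgen ▸ trivial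
    induction ha using Algebra.adjoin_induction with
    | mem y hy => exact Algebra.subset_adjoin hy
    | algebraMap r =>
      exact Subalgebra.algebraMap_mem (Algebra.adjoin (𝒜 0) (Set.range f))
        (⟨algebraMap R A r, SetLike.algebraMap_mem_graded 𝒜 r⟩ : 𝒜 0)
    | add _ _ _ _ h h' => exact add_mem h h'
    | mul _ _ _ _ h h' => exact mul_mem h h'
  refine x.not_irrelevant_le ?_
  show (HomogeneousIdeal.irrelevant 𝒜).toIdeal ≤ x.asHomogeneousIdeal.toIdeal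
  refine le_trans (GrBasics.irrelevant_eq_span_of_adjoin_eq_top 𝒜
    (by rintro _ ⟨i, rfl⟩; exact ⟨_, hdeg i, hf i⟩) h0).le ?_
  exact Ideal.span_le.mpr (by rintro _ ⟨i, rfl⟩; exact hc i)

/-- With generators of degrees `deg i`, every point avoids an element of degree `lcm deg`. -/
theorem exists_lcm_degree_notMem {ι : Type*} [Fintype ι] (f : ι → A) (deg : ι → ℕ) (hdeg : ∀ i, 0 < deg i)
    (hf : ∀ i, f i ∈ 𝒜 (deg i)) (hgen : Algebra.adjoin R (Set.range f) = ⊤) (x : ProjectiveSpectrum 𝒜) :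
    ∃ g ∈ 𝒜 (Finset.univ.lcm deg), g ∉ x.asHomogeneousIdeal := by
  obtain ⟨i, hi⟩ := exists_generator_notMem 𝒜 f deg hdeg hf hgen x
  obtain ⟨q, hq⟩ : deg i ∣ Finset.univ.lcm deg := Finset.dvd_lcm (Finset.mem_univ i)
  refine ⟨f i ^ q, ?_, fun h => hi (x.isPrime.mem_of_pow_mem q h)⟩
  rw [hq, mul_comm]
  simpa [smul_eq_mul] using SetLike.pow_mem_graded q (hf i)

/-- `O(0)` is the structure sheaf. -/
theorem nonempty_structureModule_iso_twist_zero :
    Nonempty (Coh.structureModule (Proj 𝒜) ≅ Twist.twist 𝒜 0) :=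
  nonempty_structureModule_iso (Twist.twist 𝒜 0)
    (fracSect ⊤ (⟨1, SetLike.GradedOne.one_mem⟩ : 𝒜 0) (⟨1, SetLike.GradedOne.one_mem⟩ : 𝒜 0)
      (fun x h => x.1.isPrime.ne_top ((Ideal.eq_top_iff_one _).mpr h)) (by simp))
    fun W => bijective_smul_fracSect (W := W) _ _
      (fun x h => x.1.isPrime.ne_top ((Ideal.eq_top_iff_one _).mpr h))
      (fun x h => x.1.isPrime.ne_top ((Ideal.eq_top_iff_one _).mpr h)) (by simp)

/-- `O(n) ≅ O(d)^{⊗ k}` for `n = k * d`. -/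
theorem nonempty_twist_iso_tensorPow {d : ℤ} (hd : HasUnit 𝒜 d) :
    ∀ (k : ℕ) (n : ℤ), n = k * d → Nonempty (Twist.twist 𝒜 n ≅ CohB1.tensorPow (Twist.twist 𝒜 d) k)
  | 0, n, hn => by
    obtain rfl : n = 0 := by simpa using hn
    obtain ⟨e⟩ := nonempty_structureModule_iso_twist_zero 𝒜
    exact ⟨e.symm⟩
  | k + 1, n, hn => by
    obtain ⟨e⟩ := nonempty_twist_iso_tensorPow hd k (k * d) rfl
    obtain ⟨e'⟩ := nonempty_tensor_twist_iso 𝒜 (n := (k : ℤ) * d) (m := d) (r := n)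
      (by rw [hn]; push_cast; ring) hd
    obtain ⟨e''⟩ := nonempty_tensorMod_iso e (Iso.refl (Twist.twist 𝒜 d))
    exact ⟨e'.symm ≪≫ e''⟩

/-- `O(m)` is invertible on any open covered by unit fractions. -/
theorem isInvertible_restrict_twist {m : ℤ} (U : (Proj 𝒜).Opens)
    (h : ∀ x : Proj 𝒜, x ∈ U → ∃ (i j : ℕ) (g : 𝒜 i) (g' : 𝒜 j),
      g.1 ∉ x.asHomogeneousIdeal ∧ g'.1 ∉ x.asHomogeneousIdeal ∧ (i : ℤ) = j + m) :
    PicF.IsInvertible ((Twist.twist 𝒜 m).restrict U.ι) :=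
  isInvertible_restrict (Twist.twist 𝒜 m) U fun x hx => by
    obtain ⟨i, j, g, g', hg, hg', hdeg⟩ := h x hx
    let V : (Proj 𝒜).Opens := Proj.basicOpen 𝒜 (g.1 * g'.1)
    have h1 : ∀ y : V, g.1 ∉ y.1.asHomogeneousIdeal := fun y hc => y.2 (Ideal.mul_mem_right _ _ hc)
    have h2 : ∀ y : V, g'.1 ∉ y.1.asHomogeneousIdeal := fun y hc => y.2 (Ideal.mul_mem_left _ _ hc)
    exact ⟨V, fracSect V g g' h2 hdeg, fun hc => (x.isPrime.mem_or_mem hc).elim hg hg', fun W hW =>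
      bijective_smul_fracSect (W := W) g g' (fun y => h1 ⟨y.1, hW y.2⟩) (fun y => h2 ⟨y.1, hW y.2⟩) hdeg⟩

end Groth.Agent.ProjTwist
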