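import Groth.Prelude.Def_CohB1
import Mathlib.AlgebraicGeometry.Modules.Sheaf
import Mathlib.CategoryTheory.Sites.Localization
import Mathlib.CategoryTheory.Sites.LocallyBijective

/-!
# A locally bijective map from a presheaf of modules identifies its sheafification
-/

set_option autoImplicit false
universe u
open CategoryTheory AlgebraicGeometry Opposite TopologicalSpace

namespace Groth.Agent.ProjTwist

variable {X : Scheme.{u}}

/-- If `φ : P ⟶ F` (with `F` a sheaf of modules) is locally bijective, the sheafification of `P` is `F`. -/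
theorem nonempty_sheafify_iso (P : X.PresheafOfModules) (F : X.Modules) (φ : P ⟶ F.val)
    (hsurj : ∀ (U : X.Opens) (t : F.val.obj (op U)) (x : X), x ∈ U →
      ∃ (V : X.Opens) (h : V ≤ U), x ∈ V ∧ ∃ s : P.obj (op V),
        φ.app (op V) s = F.val.map (homOfLE h).op t)
    (hinj : ∀ (U : X.Opens) (s : P.obj (op U)), φ.app (op U) s = 0 → ∀ x : X, x ∈ U →
      ∃ (V : X.Opens) (h : V ≤ U), x ∈ V ∧ P.map (homOfLE h).op s = 0) :
    Nonempty ((CohB1.sheafifyMod X).obj P ≅ F) := by
  let J := Opens.grothendieckTopology X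
  let f := (PresheafOfModules.toPresheaf _).map φ
  have h1 : Presheaf.IsLocallySurjective J f := ⟨fun {U} t x hx => by
    obtain ⟨V, h, hxV, s, hs⟩ := hsurj U t x hx
    exact ⟨V, homOfLE h, ⟨s, hs⟩, hxV⟩⟩
  have h2 : Presheaf.IsLocallyInjective J f := ⟨fun {U} a b hab x hx => by
    have hab' : φ.app U a = φ.app U b := hab
    obtain ⟨V, h, hxV, hs⟩ := hinj U.unop (a - b) ((map_sub (φ.app U).hom a b).trans (sub_eq_zero.mpr hab')) x hx
    refine ⟨V, homOfLE h, ?_, hxV⟩
    show P.map (homOfLE h).op a = P.map (homOfLE h).op b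
    exact sub_eq_zero.mp ((map_sub (P.map (homOfLE h).op).hom a b).symm.trans hs)⟩
  have hW : J.W f := GrothendieckTopology.W_of_isLocallyBijective J f
  have hiso : IsIso ((CohB1.sheafifyMod X).map φ) :=
    (isIso_iff_of_reflects_iso _ (SheafOfModules.toSheaf X.ringCatSheaf)).mp ((J.W_iff f).mp hW)
  exact ⟨@asIso _ _ _ _ _ hiso ≪≫
    ((asIso (PresheafOfModules.sheafificationAdjunction (R := X.ringCatSheaf)
      (𝟙 X.ringCatSheaf.obj)).counit).app F)⟩

/-- Sheafification does not change a sheaf of modules up to isomorphism of tensor factors. -/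
theorem nonempty_tensorMod_iso {M M' N N' : X.Modules} (e : M ≅ M') (e' : N ≅ N') :
    Nonempty (CohB1.tensorMod M N ≅ CohB1.tensorMod M' N') :=
  ⟨(CohB1.sheafifyMod X).mapIso
    (MonoidalCategory.tensorIso (C := CohB1.PMod X) ((Scheme.Modules.toPresheafOfModules X).mapIso e)
      ((Scheme.Modules.toPresheafOfModules X).mapIso e'))⟩

end Groth.Agent.ProjTwist
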