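import Groth.Prelude.Def_CohB1
import Groth.Agent.ProjTwist.LocBij
import Mathlib.Algebra.Category.ModuleCat.Monoidal.Basic

/-!
# Natural bilinear maps of presheaves of modules give maps out of the tensor product
-/

set_option autoImplicit false
universe u v u₁
open CategoryTheory AlgebraicGeometry MonoidalCategory Opposite

namespace Groth.Agent.ProjTwist

variable {C : Type u₁} [Category.{v} C] {R : Cᵒᵖ ⥤ CommRingCat.{u}}
variable {M N T : PresheafOfModules.{u} (R ⋙ forget₂ _ RingCat)}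

/-- A natural family of bilinear maps gives a map out of the tensor product. -/
noncomputable def liftHom (b : ∀ U, M.obj U → N.obj U → T.obj U)
    (h1 : ∀ U (q q' : M.obj U) (p : N.obj U), b U (q + q') p = b U q p + b U q' p)
    (h2 : ∀ U (c : R.obj U) (q : M.obj U) (p : N.obj U), b U (c • q) p = c • b U q p)
    (h3 : ∀ U (q : M.obj U) (p p' : N.obj U), b U q (p + p') = b U q p + b U q p')
    (h4 : ∀ U (c : R.obj U) (q : M.obj U) (p : N.obj U), b U q (c • p) = c • b U q p)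
    (hn : ∀ {U V : Cᵒᵖ} (f : U ⟶ V) (q : M.obj U) (p : N.obj U), b V (M.map f q) (N.map f p) = T.map f (b U q p)) :
    M ⊗ N ⟶ T where
  app U := ModuleCat.MonoidalCategory.tensorLift (b U) (h1 U) (h2 U) (h3 U) (h4 U)
  naturality {U V} f := ModuleCat.MonoidalCategory.tensor_ext fun q p => hn f q p

theorem liftHom_tmul (b : ∀ U, M.obj U → N.obj U → T.obj U) (h1 h2 h3 h4)
    (hn : ∀ {U V : Cᵒᵖ} (f : U ⟶ V) (q : M.obj U) (p : N.obj U), b V (M.map f q) (N.map f p) = T.map f (b U q p))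
    (U) (q : M.obj U) (p : N.obj U) : (liftHom b h1 h2 h3 h4 hn).app U (q ⊗ₜ p) = b U q p := rfl
/-- If one section generates the second factor, all tensors are pure. -/
theorem exists_eq_tmul {U : Cᵒᵖ} (p₀ : N.obj U) (hgen : ∀ p : N.obj U, ∃ c : R.obj U, c • p₀ = p)
    (w : (M ⊗ N).obj U) : ∃ q : M.obj U, w = q ⊗ₜ[R.obj U] p₀ := by
  induction w using TensorProduct.induction_on with
  | zero => exact ⟨0, (TensorProduct.zero_tmul _ _).symm⟩
  | tmul q p =>
    obtain ⟨c, rfl⟩ := hgen p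
    exact ⟨c • q, (TensorProduct.smul_tmul (R := R.obj U) (R' := R.obj U) c q p₀).symm⟩
  | add a b ha hb =>
    obtain ⟨qa, rfl⟩ := ha
    obtain ⟨qb, rfl⟩ := hb
    exact ⟨qa + qb, (TensorProduct.add_tmul _ _ _).symm⟩

/-- If locally some section `p₀` of `G` generates and pairing with it is bijective, the pairing
identifies `F ⊗ G` with `T`. -/
theorem nonempty_tensorMod_iso_of_unit {X : Scheme.{u}} {F G : CohB1.PMod X} {T : X.Modules}
    (φ : F ⊗ G ⟶ CohB1.toPMod T)
    (hunit : ∀ (U : X.Opens) (x : X), x ∈ U → ∃ (V : X.Opens) (_ : V ≤ U), x ∈ V ∧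
      ∃ p₀ : G.obj (op V),
        (Function.Bijective fun q : F.obj (op V) =>
          φ.app (op V) (q ⊗ₜ[X.sheaf.obj.obj (op V)] p₀)) ∧
        ∀ p : G.obj (op V), ∃ c : X.sheaf.obj.obj (op V), c • p₀ = p) :
    Nonempty ((CohB1.sheafifyMod X).obj (F ⊗ G : CohB1.PMod X) ≅ T) := by
  refine nonempty_sheafify_iso _ _ φ (fun U t x hx => ?_) (fun U s hs x hx => ?_)
  · obtain ⟨V, hV, hxV, p₀, hb, -⟩ := hunit U x hx
    obtain ⟨q, hq⟩ := hb.2 (T.val.map (homOfLE hV).op t)
    exact ⟨V, hV, hxV, _, hq⟩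
  · obtain ⟨V, hV, hxV, p₀, hb, hgen⟩ := hunit U x hx
    refine ⟨V, hV, hxV, ?_⟩
    have hpure := exists_eq_tmul (M := F) (N := G) p₀ hgen
    obtain ⟨q, hq⟩ := hpure ((F ⊗ G).map (homOfLE hV).op s)
    have h0 : φ.app (op V) ((F ⊗ G).map (homOfLE hV).op s) = 0 :=
      (PresheafOfModules.naturality_apply φ (homOfLE hV).op s).trans (by erw [hs]; exact map_zero _)
    have hq0 : q = 0 := hb.1 (by
      show φ.app (op V) (q ⊗ₜ[X.sheaf.obj.obj (op V)] p₀) = φ.app (op V) (0 ⊗ₜ[X.sheaf.obj.obj (op V)] p₀)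
      exact (congrArg _ hq.symm).trans (h0.trans ((congrArg _ (TensorProduct.zero_tmul _ _)).trans
        (map_zero (φ.app (op V)).hom)).symm))
    exact hq.trans (hq0 ▸ TensorProduct.zero_tmul _ _)

end Groth.Agent.ProjTwist
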