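import Groth.Agent.ProjTwist.Basic
import Groth.Agent.ProjTwist.LocBij
import Groth.Agent.ProjTwist.LiftHom
import Mathlib.Algebra.Category.ModuleCat.Monoidal.Basic

/-!
# `M(n)~ ⊗ O(m) ≅ M(n + m)~` when `O(m)` is locally a unit fraction
-/

set_option autoImplicit false
universe u
open CategoryTheory AlgebraicGeometry Opposite TopologicalSpace MonoidalCategory

namespace Groth.Agent.ProjTwist

set_option synthInstance.maxHeartbeats 400000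
set_option maxHeartbeats 1600000

variable {R A : Type u} [CommRing R] [CommRing A] [Algebra R A] (𝒜 : ℕ → Submodule R A) [GradedAlgebra 𝒜]
variable {M : Type u} [AddCommGroup M] [Module R M] [Module A M] (ℳ : ℕ → Submodule R M)
  [SetLike.GradedSMul 𝒜 ℳ]

/-- The multiplication map on presheaves of sections. -/
noncomputable def mulHom {n m r : ℤ} (h : n + m = r) :
    CohB1.tensorPre (GrTilde.tilde 𝒜 ℳ n) (Twist.twist 𝒜 m) ⟶ CohB1.toPMod (GrTilde.tilde 𝒜 ℳ r) :=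
  liftHom (M := CohB1.toPMod (GrTilde.tilde 𝒜 ℳ n)) (N := CohB1.toPMod (Twist.twist 𝒜 m))
    (T := CohB1.toPMod (GrTilde.tilde 𝒜 ℳ r))
    (fun U q p => pairSect (U := U) h q p)
    (fun U q q' p => sect_ext (𝒜 := 𝒜) (ℳ := ℳ) fun x => smul_add (p.1 x).1 (q.1 x).1 (q'.1 x).1)
    (fun U c q p => sect_ext (𝒜 := 𝒜) (ℳ := ℳ) fun x => by
      refine Eq.trans ?_ (smul_val (U := U.unop) c _ x).symm
      exact (congrArg (fun v => (p.1 x).1 • v) (smul_val (U := U.unop) c q x)).trans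
        (smul_comm (M := Twist.Loc 𝒜 x.1) (p.1 x).1 (c.1 x).val _))
    (fun U q p p' => sect_ext (𝒜 := 𝒜) (ℳ := ℳ) fun x => add_smul (p.1 x).1 (p'.1 x).1 (q.1 x).1)
    (fun U c q p => sect_ext (𝒜 := 𝒜) (ℳ := ℳ) fun x => by
      refine Eq.trans ?_ (smul_val (U := U.unop) c _ x).symm
      exact (congrArg (fun v => v • (q.1 x).1) (smulT_val (U := U.unop) c p x)).trans (mul_smul _ _ _))
    (fun f q p => sect_ext (𝒜 := 𝒜) (ℳ := ℳ) fun x => rfl)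

theorem mulHom_tmul {n m r : ℤ} (h : n + m = r) (U : (Proj 𝒜).Opensᵒᵖ)
    (q : (CohB1.toPMod (GrTilde.tilde 𝒜 ℳ n)).obj U) (p : (CohB1.toPMod (Twist.twist 𝒜 m)).obj U) :
    (mulHom 𝒜 ℳ h).app U (q ⊗ₜ[(Proj 𝒜).sheaf.obj.obj U] p) = pairSect (U := U) h q p := rfl

/-- `M(n)~ ⊗ O(m) ≅ M(n + m)~`. -/
theorem nonempty_tensor_tilde_iso {n m r : ℤ} (h : n + m = r) (hm : HasUnit 𝒜 m) :
    Nonempty (CohB1.tensorMod (GrTilde.tilde 𝒜 ℳ n) (Twist.twist 𝒜 m) ≅ GrTilde.tilde 𝒜 ℳ r) := by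
  refine nonempty_tensorMod_iso_of_unit (mulHom 𝒜 ℳ h) fun U x hx => ?_
  obtain ⟨i, j, g, g', hg, hg', hdeg⟩ := hm x
  let V : (Proj 𝒜).Opens := U ⊓ Proj.basicOpen 𝒜 (g.1 * g'.1)
  have h1 : ∀ y : V, g.1 ∉ y.1.asHomogeneousIdeal := fun y hc => y.2.2 (Ideal.mul_mem_right _ _ hc)
  have h2 : ∀ y : V, g'.1 ∉ y.1.asHomogeneousIdeal := fun y hc => y.2.2 (Ideal.mul_mem_left _ _ hc)
  refine ⟨V, inf_le_left, ⟨hx, fun hc => (x.isPrime.mem_or_mem hc).elim hg hg'⟩,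
    fracSect V g g' h2 hdeg, ⟨fun q q' hqq => ?_, fun t => ?_⟩,
    (bijective_smul_fracSect g g' h1 h2 hdeg).2⟩
  · refine sect_ext (𝒜 := 𝒜) (ℳ := ℳ) fun y => ?_
    have h3 : (Localization.mk g.1 ⟨g'.1, h2 y⟩ : Twist.Loc 𝒜 y.1) • (q.1 y).1 =
        (Localization.mk g.1 ⟨g'.1, h2 y⟩ : Twist.Loc 𝒜 y.1) • (q'.1 y).1 :=
      congrArg (fun s : GrTilde.sect 𝒜 ℳ r (op V) => (s.1 y).1) hqq
    have h4 := congrArg (fun v => (Localization.mk g'.1 ⟨g.1, h1 y⟩ : Twist.Loc 𝒜 y.1) • v) h3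
    simp only [smul_smul, mk_mul_mk_swap (h2 y) (h1 y), one_smul] at h4
    exact h4
  · refine ⟨pairSect (U := op V) (m := -m) (show r + -m = n by omega) t (fracSect V g' g h1 (by omega)),
      sect_ext (𝒜 := 𝒜) (ℳ := ℳ) fun y => ?_⟩
    show (Localization.mk g.1 ⟨g'.1, h2 y⟩ : Twist.Loc 𝒜 y.1) •
      ((Localization.mk g'.1 ⟨g.1, h1 y⟩ : Twist.Loc 𝒜 y.1) • (t.1 y).1) = (t.1 y).1
    rw [smul_smul, mk_mul_mk_swap (h1 y) (h2 y), one_smul]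

/-- `O(n) = A(n)~`. -/
theorem twist_eq_tilde (n : ℤ) : Twist.twist 𝒜 n = GrTilde.tilde 𝒜 𝒜 n := rfl

/-- `O(n) ⊗ O(m) ≅ O(n + m)`. -/
theorem nonempty_tensor_twist_iso {n m r : ℤ} (h : n + m = r) (hm : HasUnit 𝒜 m) :
    Nonempty (CohB1.tensorMod (Twist.twist 𝒜 n) (Twist.twist 𝒜 m) ≅ Twist.twist 𝒜 r) := by
  rw [twist_eq_tilde 𝒜 n, twist_eq_tilde 𝒜 r]
  exact nonempty_tensor_tilde_iso 𝒜 𝒜 h hm

/-- Commutativity of the tensor product of modules. -/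
theorem nonempty_tensorMod_comm {X : Scheme.{u}} (F G : X.Modules) :
    Nonempty (CohB1.tensorMod F G ≅ CohB1.tensorMod G F) :=
  ⟨(CohB1.sheafifyMod X).mapIso (show (CohB1.tensorPre F G : CohB1.PMod X) ≅ CohB1.tensorPre G F from β_ (CohB1.toPMod F) (CohB1.toPMod G))⟩

/-- `O(m) ⊗ O(n) ≅ O(m + n)`, unit fraction on the left. -/
theorem nonempty_tensor_twist_iso' {n m r : ℤ} (h : m + n = r) (hm : HasUnit 𝒜 m) :
    Nonempty (CohB1.tensorMod (Twist.twist 𝒜 m) (Twist.twist 𝒜 n) ≅ Twist.twist 𝒜 r) := by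
  obtain ⟨e⟩ := nonempty_tensor_twist_iso 𝒜 (n := n) (m := m) (r := r) (by omega) hm
  obtain ⟨c⟩ := nonempty_tensorMod_comm (Twist.twist 𝒜 m) (Twist.twist 𝒜 n)
  exact ⟨c ≪≫ e⟩

end Groth.Agent.ProjTwist
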