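import Groth.Prelude.Def_Pic
import Mathlib.AlgebraicGeometry.Modules.Sheaf

/-!
# A section generating freely on an open trivialises a module there
-/

set_option autoImplicit false
universe u
open CategoryTheory AlgebraicGeometry Opposite TopologicalSpace

namespace Groth.Agent.ProjTwist

variable {X : Scheme.{u}}

/-- The morphism `𝒪_U ⟶ L|_U` given by a section `σ` of `L` over `U`. -/
noncomputable def sectionHom (L : X.Modules) (U : X.Opens) (σ : Γ(L, U)) :
    Coh.structureModule (↑U : Scheme.{u}) ⟶ L.restrict U.ι :=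
  (SheafOfModules.unitHomEquiv (L.restrict U.ι)).symm
    (PresheafOfModules.sectionsMk (M := (L.restrict U.ι).val)
      (fun V => L.presheaf.map (homOfLE (U.ι_image_le V.unop)).op σ)
      (fun {V W} f => by
        change L.presheaf.map _ (L.presheaf.map _ σ) = L.presheaf.map _ σ
        rw [← ConcreteCategory.comp_apply, ← Functor.map_comp]
        rfl))

theorem sectionHom_app (L : X.Modules) (U : X.Opens) (σ : Γ(L, U)) (V : (↑U : Scheme.{u}).Opens)
    (r : Γ((↑U : Scheme.{u}), V)) :
    (sectionHom L U σ).val.app (op V) r =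
      (show Γ(L, U.ι ''ᵁ V) from
        ((U.ι.appIso V).inv r) • L.presheaf.map (homOfLE (U.ι_image_le V)).op σ) := rfl

/-- If multiplication by `σ` is bijective on every open inside `U`, then `L|_U` is trivial. -/
theorem isIso_sectionHom (L : X.Modules) (U : X.Opens) (σ : Γ(L, U))
    (h : ∀ (W : X.Opens) (hW : W ≤ U),
      Function.Bijective fun r : Γ(X, W) => r • L.presheaf.map (homOfLE hW).op σ) :
    IsIso (sectionHom L U σ) := by
  rw [Scheme.Modules.Hom.isIso_iff_isIso_app]
  intro V
  rw [ConcreteCategory.isIso_iff_bijective]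
  exact (h (U.ι ''ᵁ V) (U.ι_image_le V)).comp
    (ConcreteCategory.bijective_of_isIso (U.ι.appIso V).inv)

theorem nonempty_restrict_iso_structureModule (L : X.Modules) (U : X.Opens) (σ : Γ(L, U))
    (h : ∀ (W : X.Opens) (hW : W ≤ U),
      Function.Bijective fun r : Γ(X, W) => r • L.presheaf.map (homOfLE hW).op σ) :
    Nonempty (L.restrict U.ι ≅ Coh.structureModule (↑U : Scheme.{u})) := by
  have := isIso_sectionHom L U σ h
  exact ⟨(asIso (sectionHom L U σ)).symm⟩

theorem map_map (L : X.Modules) {U₁ U₂ U₃ : X.Opens} (h₁ : U₁ ≤ U₂) (h₂ : U₂ ≤ U₃) (σ : Γ(L, U₃)) :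
    L.presheaf.map (homOfLE h₁).op (L.presheaf.map (homOfLE h₂).op σ) =
      L.presheaf.map (homOfLE (h₁.trans h₂)).op σ := by
  rw [← ConcreteCategory.comp_apply, ← Functor.map_comp]
  rfl

/-- A global section generating freely everywhere trivialises the module. -/
theorem nonempty_structureModule_iso (L : X.Modules) (σ : Γ(L, ⊤))
    (h : ∀ W : X.Opens, Function.Bijective fun r : Γ(X, W) => r • L.presheaf.map (homOfLE (le_top : W ≤ ⊤)).op σ) :
    Nonempty (Coh.structureModule X ≅ L) := by
  let s : Coh.structureModule X ⟶ L := (SheafOfModules.unitHomEquiv L).symm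
    (PresheafOfModules.sectionsMk (M := L.val)
      (fun V => L.presheaf.map (homOfLE (le_top (a := V.unop))).op σ)
      (fun {V W} f => by
        change L.presheaf.map _ (L.presheaf.map _ σ) = L.presheaf.map _ σ
        rw [← ConcreteCategory.comp_apply, ← Functor.map_comp]
        rfl))
  have : IsIso s := by
    rw [Scheme.Modules.Hom.isIso_iff_isIso_app]
    intro V
    rw [ConcreteCategory.isIso_iff_bijective]
    exact h V
  exact ⟨asIso s⟩

/-- A module that is freely generated near every point of `U` is invertible on `U`. -/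
theorem isInvertible_restrict (L : X.Modules) (U : X.Opens)
    (h : ∀ x : X, x ∈ U → ∃ (V : X.Opens) (σ : Γ(L, V)), x ∈ V ∧ ∀ (W : X.Opens) (hW : W ≤ V),
      Function.Bijective fun r : Γ(X, W) => r • L.presheaf.map (homOfLE hW).op σ) :
    PicF.IsInvertible (L.restrict U.ι) := fun y => by
  obtain ⟨V, σ, hy, hb⟩ := h (U.ι.base y) y.2
  have hle : U.ι ''ᵁ (U.ι ⁻¹ᵁ V) ≤ V := by
    rintro _ ⟨z, hz, rfl⟩
    exact hz
  refine ⟨U.ι ⁻¹ᵁ V, hy,
    nonempty_restrict_iso_structureModule (L.restrict U.ι) _ (L.presheaf.map (homOfLE hle).op σ) fun W hW => ?_⟩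
  have hW1 : U.ι ''ᵁ W ≤ U.ι ''ᵁ (U.ι ⁻¹ᵁ V) := Scheme.Hom.image_mono _ hW
  have hb' := (hb _ (hW1.trans hle)).comp (ConcreteCategory.bijective_of_isIso (U.ι.appIso W).inv)
  rw [← map_map L hW1 hle σ] at hb'
  exact hb'

end Groth.Agent.ProjTwist
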