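import Groth.Agent.ProjTwist.Generated
import Mathlib.AlgebraicGeometry.ProjectiveSpectrum.Basic

/-!
# `O(m)` is ample when elements of degree `m` have no common zero
-/

set_option autoImplicit false
universe u
open CategoryTheory CategoryTheory.Limits AlgebraicGeometry Opposite TopologicalSpace

namespace Groth.Agent.ProjTwist

set_option synthInstance.maxHeartbeats 400000
set_option maxHeartbeats 1600000

/-- Composing with an isomorphism does not change the locus of isomorphy. -/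
theorem genLocus_comp_iso {X : Scheme.{u}} {L L' : X.Modules} (s : Coh.structureModule X ⟶ L) (e : L ≅ L') :
    CohB1.genLocus L' (s ≫ e.hom) = CohB1.genLocus L s := by
  unfold CohB1.genLocus
  congr 1
  ext U
  simp only [Set.mem_ofPred_eq, Functor.map_comp]
  exact ⟨fun h => IsIso.of_isIso_comp_right _ ((Scheme.Modules.restrictFunctor U.ι).map e.hom),
    fun h => inferInstance⟩

theorem isIso_restrict_globalHom_iff {X : Scheme.{u}} (L : X.Modules) (σ : Γ(L, ⊤)) (U : X.Opens) :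
    IsIso ((Scheme.Modules.restrictFunctor U.ι).map (globalHom L σ)) ↔
      ∀ V : (↑U : Scheme.{u}).Opens,
        Function.Bijective fun r : Γ(X, U.ι ''ᵁ V) =>
          r • L.presheaf.map (homOfLE (le_top : U.ι ''ᵁ V ≤ ⊤)).op σ := by
  rw [Scheme.Modules.Hom.isIso_iff_isIso_app]
  refine forall_congr' fun V => ?_
  rw [ConcreteCategory.isIso_iff_bijective]
  exact Iff.rfl

variable {R A : Type u} [CommRing R] [CommRing A] [Algebra R A] (𝒜 : ℕ → Submodule R A) [GradedAlgebra 𝒜]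

/-- The global section `g / 1`, as a section of the module. -/
noncomputable abbrev globalSec {N : ℕ} (g : 𝒜 N) : Γ(Twist.twist 𝒜 (N : ℤ), ⊤) := Twist.globalOf 𝒜 g

/-- The locus where `g / 1` generates `O(N)` is `D₊(g)`. -/
theorem genLocus_globalSec {N : ℕ} (g : 𝒜 N) (hunit : HasUnit 𝒜 (N : ℤ)) :
    CohB1.genLocus (Twist.twist 𝒜 (N : ℤ)) (globalHom _ (globalSec 𝒜 g)) = Proj.basicOpen 𝒜 g.1 := by
  refine le_antisymm (sSup_le fun U hU x hx => ?_) (le_sSup ?_)
  · intro hgx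
    obtain ⟨i, j, a, b, hax, hbx, hdeg⟩ := hunit x
    let V : (↑U : Scheme.{u}).Opens := U.ι ⁻¹ᵁ Proj.basicOpen 𝒜 (a.1 * b.1)
    let W : (Proj 𝒜).Opens := U.ι ''ᵁ V
    have hxW : x ∈ W := ⟨⟨x, hx⟩, fun hc => (x.isPrime.mem_or_mem hc).elim hax hbx, rfl⟩
    have hW : ∀ y : W, a.1 * b.1 ∉ y.1.asHomogeneousIdeal := by
      rintro ⟨_, z, hz, rfl⟩
      exact hz
    obtain ⟨c, hc⟩ := ((isIso_restrict_globalHom_iff (Twist.twist 𝒜 (N : ℤ)) (globalSec 𝒜 g) U).mp hU V).2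
      (fracSect W a b (fun y hb => hW y (Ideal.mul_mem_left _ _ hb)) hdeg)
    have h1 := congrArg (fun s : Twist.sectN (𝒜 := 𝒜) (N : ℤ) (op W) => (s.1 ⟨x, hxW⟩).1) hc
    have h2 := (smulT_val (show Twist.O (𝒜 := 𝒜) (op W) from c) _ ⟨x, hxW⟩).symm.trans h1
    revert h2
    generalize HomogeneousLocalization.val ((show Twist.O (𝒜 := 𝒜) (op W) from c).1 ⟨x, hxW⟩) = v
    induction v using Localization.induction_on with | _ p => ?_
    intro h2
    change Localization.mk p.1 p.2 * Localization.mk g.1 ⟨1, _⟩ = Localization.mk a.1 ⟨b.1, _⟩ at h2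
    rw [Localization.mk_mul, Localization.mk_eq_mk_iff, Localization.r_iff_exists] at h2
    obtain ⟨w, hw⟩ := h2
    simp only [Submonoid.coe_mul, mul_one] at hw
    have hmem : (w : A) * ((p.2 : A) * a.1) ∈ x.asHomogeneousIdeal.toIdeal := by
      rw [← hw]
      exact Ideal.mul_mem_left _ _ (Ideal.mul_mem_left _ _ (Ideal.mul_mem_left _ _ hgx))
    rcases x.isPrime.mem_or_mem hmem with h | h
    · exact w.2 h
    rcases x.isPrime.mem_or_mem h with h | h
    · exact p.2.2 h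
    · exact hax h
  · show IsIso _
    rw [isIso_restrict_globalHom_iff]
    intro V
    exact bijective_smul_fracSect (W := (Proj.basicOpen 𝒜 g.1).ι ''ᵁ V) g
      (⟨1, SetLike.GradedOne.one_mem⟩ : 𝒜 0)
      (by rintro ⟨_, z, hz, rfl⟩; exact z.2) (fun y => notMem_one 𝒜 y.1) (by simp)

/-- `O(m)` is ample if `m > 0` and some degree-`m` element avoids each point. -/
theorem isAmple_twist {m : ℕ} (hm : 0 < m) [CompactSpace (Proj 𝒜)]
    (hcov : ∀ x : ProjectiveSpectrum 𝒜, ∃ g ∈ 𝒜 m, g ∉ x.asHomogeneousIdeal) :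
    CohB1.IsAmple (Twist.twist 𝒜 (m : ℤ)) := by
  have hu : HasUnit 𝒜 (m : ℤ) := by simpa using hasUnit_of_cover hcov 1
  refine ⟨isInvertible_twist hu, inferInstance, fun x => ?_⟩
  obtain ⟨g, hg, hgx⟩ := hcov x
  obtain ⟨e⟩ := nonempty_twist_iso_tensorPow 𝒜 hu 1 (m : ℤ) (by simp)
  refine ⟨0, globalHom _ (globalSec 𝒜 ⟨g, hg⟩) ≫ e.hom, ?_⟩
  rw [genLocus_comp_iso, genLocus_globalSec 𝒜 ⟨g, hg⟩ hu]
  exact ⟨hgx, Proj.isAffineOpen_basicOpen 𝒜 g hg hm⟩

/-- A finite cover by basic opens makes `Proj` quasi-compact. -/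
theorem compactSpace_of_finite_cover {ι : Type*} [Finite ι] (f : ι → A) (deg : ι → ℕ)
    (hdeg : ∀ i, 0 < deg i) (hf : ∀ i, f i ∈ 𝒜 (deg i))
    (hcov : ∀ x : ProjectiveSpectrum 𝒜, ∃ i, f i ∉ x.asHomogeneousIdeal) : CompactSpace (Proj 𝒜) := by
  refine ⟨?_⟩
  have h : (Set.univ : Set (Proj 𝒜)) = ⋃ i, (Proj.basicOpen 𝒜 (f i) : Set (Proj 𝒜)) := by
    ext x
    simpa using hcov x
  rw [h]
  exact isCompact_iUnion fun i => (Proj.isAffineOpen_basicOpen 𝒜 (f i) (hf i) (hdeg i)).isCompact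

end Groth.Agent.ProjTwist
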