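import Groth.Prelude.Def_GrMod2
import Groth.Agent.S3587
import Mathlib.AlgebraicGeometry.ProjectiveSpectrum.Basic
import Mathlib.RingTheory.GradedAlgebra.Basic
import Mathlib.Tactic

/-!
# Sections of `M(n)~` over `D₊(f)` are single fractions
-/

set_option autoImplicit false
universe u
open CategoryTheory AlgebraicGeometry Opposite TopologicalSpace DirectSum

namespace Groth.Agent.ProjTwist

variable {R A : Type u} [CommRing R] [CommRing A] [Algebra R A] (𝒜 : ℕ → Submodule R A) [GradedAlgebra 𝒜]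

/-- Every open neighbourhood contains a basic open of a homogeneous element. -/
theorem exists_homogeneous_nhd {x : ProjectiveSpectrum 𝒜} (V : Opens (ProjectiveSpectrum.top 𝒜))
    (hx : x ∈ V) :
    ∃ (e : ℕ) (h : A), h ∈ 𝒜 e ∧ x ∈ ProjectiveSpectrum.basicOpen 𝒜 h ∧
      ProjectiveSpectrum.basicOpen 𝒜 h ≤ V := by
  obtain ⟨W, ⟨h, rfl⟩, hxW, hWV⟩ :=
    (ProjectiveSpectrum.isTopologicalBasis_basic_opens 𝒜).exists_subset_of_mem_open hx V.2
  simp only at hxW hWV
  have heq := ProjectiveSpectrum.basicOpen_eq_union_of_projection 𝒜 h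
  rw [SetLike.mem_coe, heq, Opens.mem_iSup] at hxW
  obtain ⟨e, he⟩ := hxW
  refine ⟨e, GradedRing.proj 𝒜 e h, (decompose 𝒜 h e).2, he, fun y hy => hWV ?_⟩
  rw [SetLike.mem_coe, heq, Opens.mem_iSup]
  exact ⟨e, hy⟩

variable {M : Type u} [AddCommGroup M] [Module R M] [Module A M] (ℳ : ℕ → Submodule R M)
  [SetLike.GradedSMul 𝒜 ℳ]

/-- Locally, a section of `M(n)~` is `b / g` with `g` of positive degree vanishing exactly outside the
neighbourhood, and `b` of degree `deg g + n`. -/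
theorem exists_frac_pos (n : ℤ) {U : Opens (ProjectiveSpectrum.top 𝒜)} (s : GrTilde.sect 𝒜 ℳ n (op U))
    (x : U) {d : ℕ} (hd : 0 < d) {f : A} (hf : f ∈ 𝒜 d) (hfx : f ∉ x.1.asHomogeneousIdeal) :
    ∃ (e i : ℕ) (g : A) (b : M), g ∈ 𝒜 e ∧ 0 < e ∧ b ∈ ℳ i ∧ (i : ℤ) = e + n ∧
      x.1 ∈ ProjectiveSpectrum.basicOpen 𝒜 g ∧
      ProjectiveSpectrum.basicOpen 𝒜 g ≤ ProjectiveSpectrum.basicOpen 𝒜 f ∧
      ProjectiveSpectrum.basicOpen 𝒜 g ≤ U ∧
      ∀ (y : ProjectiveSpectrum 𝒜) (hy : g ∉ y.asHomogeneousIdeal) (hyU : y ∈ U),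
        (s.1 ⟨y, hyU⟩).1 = LocalizedModule.mk b ⟨g, hy⟩ := by
  obtain ⟨V, hxV, ι, i₀, j, ⟨a, ha⟩, ⟨t, ht⟩, tnin, hdeg, hw⟩ := s.2 x
  replace hdeg : (i₀ : ℤ) = j + n ∨ a = 0 := hdeg
  obtain ⟨eh, h, hh, hxh, hhV⟩ := exists_homogeneous_nhd 𝒜 V hxV
  have hVU : V ≤ U := leOfHom ι
  set N : ℕ := n.natAbs + 1 with hN
  have hNd : N ≤ N * d := Nat.le_mul_of_pos_right _ hd
  have hfh : f ^ N * h ∈ 𝒜 (N * d + eh) := by
    refine SetLike.mul_mem_graded ?_ hh
    simpa [smul_eq_mul] using SetLike.pow_mem_graded N hf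
  have hg : f ^ N * h * t ∈ 𝒜 (N * d + eh + j) := SetLike.mul_mem_graded hfh ht
  obtain ⟨i, hi⟩ : ∃ i : ℕ, (i : ℤ) = ((N * d + eh + j : ℕ) : ℤ) + n :=
    ⟨(((N * d + eh + j : ℕ) : ℤ) + n).toNat, Int.toNat_of_nonneg (by omega)⟩
  have hbmem : (f ^ N * h) • a ∈ ℳ i := by
    rcases hdeg with h0 | h0
    · have e1 : i = N * d + eh + i₀ := by omega
      rw [e1]
      exact SetLike.GradedSMul.smul_mem hfh ha
    · rw [h0, smul_zero]
      exact Submodule.zero_mem _
  refine ⟨N * d + eh + j, i, f ^ N * h * t, (f ^ N * h) • a, hg, by omega, hbmem, hi, ?_, ?_, ?_, ?_⟩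
  · show _ ∉ x.1.asHomogeneousIdeal
    intro hc
    rcases x.1.isPrime.mem_or_mem hc with hc | hc
    · rcases x.1.isPrime.mem_or_mem hc with hc | hc
      · exact hfx (x.1.isPrime.mem_of_pow_mem N hc)
      · exact hxh hc
    · exact tnin ⟨x.1, hxV⟩ hc
  · intro y hy hc
    exact hy (Ideal.mul_mem_right _ _ (Ideal.mul_mem_right _ _ (Ideal.pow_mem_of_mem _ hc N (by omega))))
  · intro y hy
    exact hVU (hhV fun hc => hy (Ideal.mul_mem_right _ _ (Ideal.mul_mem_left _ _ hc)))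
  · intro y hy hyU
    have hyV : y ∈ V := hhV fun hc => hy (Ideal.mul_mem_right _ _ (Ideal.mul_mem_left _ _ hc))
    refine (hw ⟨y, hyV⟩).trans ?_
    rw [LocalizedModule.mk_eq]
    refine ⟨1, ?_⟩
    simp [Submonoid.smul_def, smul_smul, mul_comm]

variable [IsScalarTower R A M] [DirectSum.Decomposition ℳ]

/-- Every section of `M(n)~` over `D₊(f)` is one fraction `m / f^k`, with arbitrarily large `k`. -/
theorem exists_frac_basicOpen (n : ℤ) {d : ℕ} (hd : 0 < d) {f : A} (hf : f ∈ 𝒜 d)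
    (s : GrTilde.sect 𝒜 ℳ n (op (ProjectiveSpectrum.basicOpen 𝒜 f))) :
    ∃ (k i : ℕ) (m : M), m ∈ ℳ i ∧ (i : ℤ) = k * d + n ∧
      ∀ (x : ProjectiveSpectrum 𝒜) (hx : x ∈ ProjectiveSpectrum.basicOpen 𝒜 f),
        ((s.1 ⟨x, hx⟩).1 : GrTilde.LocMod 𝒜 (M := M) x) =
          LocalizedModule.mk m (⟨f ^ k, fun h => hx (x.isPrime.mem_of_pow_mem k h)⟩ :
            x.asHomogeneousIdeal.toIdeal.primeCompl) := by
  classical
  let U := ProjectiveSpectrum.basicOpen 𝒜 f
  choose e i g b hg he hb hi hxg hgf hgU hval using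
    fun x : U => exists_frac_pos 𝒜 ℳ n s x hd hf x.2
  have hcpt : IsCompact (U : Set (ProjectiveSpectrum 𝒜)) :=
    (Proj.isAffineOpen_basicOpen 𝒜 f hf hd).isCompact
  obtain ⟨S, hS⟩ := hcpt.elim_finite_subcover
    (fun x : U => (ProjectiveSpectrum.basicOpen 𝒜 (g x) : Set (ProjectiveSpectrum 𝒜)))
    (fun x => (ProjectiveSpectrum.basicOpen 𝒜 (g x)).2)
    (fun x hx => Set.mem_iUnion.mpr ⟨⟨x, hx⟩, hxg _⟩)
  -- agreement on overlaps
  have hover : ∀ k l : U, ∃ N : ℕ, (g k * g l) ^ N • (g l • b k - g k • b l) = 0 := by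
    intro k l
    have m1 : g l • b k ∈ ℳ (e l + i k) := SetLike.GradedSMul.smul_mem (hg l) (hb k)
    have m2 : g k • b l ∈ ℳ (e l + i k) := by
      have e1 : e l + i k = e k + i l := by have := hi k; have := hi l; omega
      rw [e1]
      exact SetLike.GradedSMul.smul_mem (hg k) (hb l)
    refine Groth.Agent.S3587.result 𝒜 ℳ (d := e k + e l) (by have := he k; omega)
      (SetLike.mul_mem_graded (hg k) (hg l)) 0 (e l + i k) ⟨_, sub_mem m1 m2⟩ ?_
    rintro ⟨y, hy⟩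
    have hyk : g k ∉ y.asHomogeneousIdeal := fun h => hy (Ideal.mul_mem_right _ _ h)
    have hyl : g l ∉ y.asHomogeneousIdeal := fun h => hy (Ideal.mul_mem_left _ _ h)
    have h1 := (hval k y hyk (hgU k hyk)).symm.trans (hval l y hyl (hgU k hyk))
    rw [LocalizedModule.mk_eq] at h1
    obtain ⟨u, hu⟩ := h1
    rw [← LocalizedModule.zero_mk (S := y.asHomogeneousIdeal.toIdeal.primeCompl) 1, LocalizedModule.mk_eq]
    refine ⟨u, ?_⟩
    simp only [Submonoid.smul_def, one_smul, smul_zero] at hu ⊢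
    rw [smul_sub, hu, sub_self]
  choose N hN using hover
  obtain ⟨L, hL⟩ : ∃ L : ℕ, ∀ k ∈ S, ∀ l ∈ S, N k l ≤ L :=
    ⟨S.sup fun k => S.sup fun l => N k l, fun k hk l hl =>
      (Finset.le_sup (f := fun l => N k l) hl).trans (Finset.le_sup (f := fun k => S.sup fun l => N k l) hk)⟩
  -- `f` is in the radical of the ideal of the `g`'s
  let I : Ideal A := Ideal.span ((fun k => g k ^ (L + 1)) '' (S : Set U))
  have hgp : ∀ k : U, g k ^ (L + 1) ∈ 𝒜 ((L + 1) * e k) := fun k => by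
    simpa [smul_eq_mul] using SetLike.pow_mem_graded (L + 1) (hg k)
  have hI : I.IsHomogeneous 𝒜 := Ideal.homogeneous_span 𝒜 _ (by
    rintro _ ⟨k, -, rfl⟩
    exact ⟨_, hgp k⟩)
  have hfI : f ∈ I.radical := by
    by_contra hc
    obtain ⟨x, hIx, hfx⟩ := GrBasics.exists_point_of_notMem_radical 𝒜 hI hd hf hc
    obtain ⟨k, hk, hxk⟩ := Set.mem_iUnion₂.mp (hS (hfx : x ∈ U))
    exact hxk (x.isPrime.mem_of_pow_mem _ (hIx (Ideal.subset_span ⟨k, hk, rfl⟩)))
  obtain ⟨p₀, hp₀⟩ := hfI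
  set p : ℕ := p₀ + n.natAbs with hp
  have hfp : f ^ p ∈ I := by
    rw [hp, pow_add]
    exact Ideal.mul_mem_right _ _ hp₀
  obtain ⟨c, hc⟩ := (Submodule.mem_span_image_finset_iff_exists_fun' A).mp hfp
  have hpd : n.natAbs ≤ p * d := le_trans (by omega) (Nat.le_mul_of_pos_right p hd)
  have hfp' : f ^ p ∈ 𝒜 (p * d) := by simpa [smul_eq_mul] using SetLike.pow_mem_graded p hf
  obtain ⟨im, him⟩ : ∃ im : ℕ, (im : ℤ) = ((p * d : ℕ) : ℤ) + n :=
    ⟨(((p * d : ℕ) : ℤ) + n).toNat, Int.toNat_of_nonneg (by omega)⟩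
  let c' : U → A := fun k =>
    if (L + 1) * e k ≤ p * d then (decompose 𝒜 (c k) (p * d - (L + 1) * e k) : A) else 0
  have hc' : ∑ k ∈ S, c' k * g k ^ (L + 1) = f ^ p := by
    calc ∑ k ∈ S, c' k * g k ^ (L + 1)
        = ∑ k ∈ S, (decompose 𝒜 (c k * g k ^ (L + 1)) (p * d) : A) := by
          refine Finset.sum_congr rfl fun k _ => ?_
          rw [GrBasics.decompose_mul_mem 𝒜 (hgp k)]
          simp only [c', ite_mul, zero_mul]
      _ = (decompose 𝒜 (f ^ p) (p * d) : A) := by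
          rw [← hc, DirectSum.decompose_sum, DFinsupp.finsetSum_apply, AddSubmonoidClass.coe_finsetSum]
          simp only [smul_eq_mul]
      _ = f ^ p := decompose_of_mem_same 𝒜 hfp'
  let m : M := ∑ k ∈ S, (c' k * g k ^ L) • b k
  have hm : m ∈ ℳ im := by
    refine Submodule.sum_mem _ fun k _ => ?_
    simp only [c']
    split_ifs with hle
    · have h2 : (decompose 𝒜 (c k) (p * d - (L + 1) * e k) : A) * g k ^ L ∈
          𝒜 (p * d - (L + 1) * e k + L * e k) := by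
        refine SetLike.mul_mem_graded (decompose 𝒜 (c k) _).2 ?_
        simpa [smul_eq_mul] using SetLike.pow_mem_graded L (hg k)
      have e2 : im = p * d - (L + 1) * e k + L * e k + i k := by
        have := hi k
        have h3 : (L + 1) * e k = L * e k + e k := by ring
        omega
      rw [e2]
      exact SetLike.GradedSMul.smul_mem h2 (hb k)
    · simp
  refine ⟨p, im, m, hm, by rw [him]; push_cast; ring, fun x hx => ?_⟩
  obtain ⟨l, hl, hxl⟩ := Set.mem_iUnion₂.mp (hS hx)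
  rw [hval l x hxl hx, LocalizedModule.mk_eq]
  refine ⟨⟨g l ^ L, fun h => hxl (x.isPrime.mem_of_pow_mem L h)⟩, ?_⟩
  simp only [Submonoid.smul_def, smul_smul]
  have key : ∀ k ∈ S, (g k ^ L * g l ^ L * g l) • b k = (g k ^ L * g l ^ L * g k) • b l := by
    intro k hk
    have h0 := hN k l
    rw [smul_sub, sub_eq_zero, smul_smul, smul_smul] at h0
    obtain ⟨r, hr⟩ := Nat.exists_eq_add_of_le (hL k hk l hl)
    have := congrArg ((g k * g l) ^ r • ·) h0
    simp only [smul_smul] at this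
    rw [show g k ^ L * g l ^ L * g l = (g k * g l) ^ r * ((g k * g l) ^ N k l * g l) by rw [hr]; ring,
      show g k ^ L * g l ^ L * g k = (g k * g l) ^ r * ((g k * g l) ^ N k l * g k) by rw [hr]; ring]
    exact this
  calc (g l ^ L * f ^ p) • b l
      = ∑ k ∈ S, (g l ^ L * (c' k * g k ^ (L + 1))) • b l := by
        rw [← Finset.sum_smul, ← Finset.mul_sum, hc']
    _ = ∑ k ∈ S, (g l ^ L * g l) • ((c' k * g k ^ L) • b k) := by
        refine Finset.sum_congr rfl fun k hk => ?_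
        have h1 := congrArg (c' k • ·) (key k hk)
        simp only [smul_smul] at h1 ⊢
        rw [show g l ^ L * (c' k * g k ^ (L + 1)) = c' k * (g k ^ L * g l ^ L * g k) by ring, ← h1]
        congr 1
        ring
    _ = (g l ^ L * g l) • m := by rw [Finset.smul_sum]

end Groth.Agent.ProjTwist
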