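import Groth.Prelude.Def_GrMod2
import Groth.Agent.ProjTwist.LocTriv
import Mathlib.AlgebraicGeometry.ProjectiveSpectrum.Basic
import Mathlib.RingTheory.GradedAlgebra.Basic
import Mathlib.Tactic

/-!
# Products of sections of `M(n)~` and `O(m)`; fractions that trivialise `O(m)`
-/

set_option autoImplicit false
universe u
open CategoryTheory AlgebraicGeometry Opposite TopologicalSpace DirectSum

namespace Groth.Agent.ProjTwist

set_option synthInstance.maxHeartbeats 400000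
set_option maxHeartbeats 1600000

variable {R A : Type u} [CommRing R] [CommRing A] [Algebra R A] {𝒜 : ℕ → Submodule R A} [GradedAlgebra 𝒜]
variable {M : Type u} [AddCommGroup M] [Module R M] [Module A M] {ℳ : ℕ → Submodule R M}

/-- One fraction lies in the module of degree-`n` fractions. -/
theorem mk_mem_tildeAt {n : ℤ} {x : ProjectiveSpectrum 𝒜} {i j : ℕ} {b : M} {s : A} (hb : b ∈ ℳ i)
    (hs : s ∈ 𝒜 j) (hsx : s ∉ x.asHomogeneousIdeal) (h : (i : ℤ) = j + n) :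
    (LocalizedModule.mk b ⟨s, hsx⟩ : GrTilde.LocMod 𝒜 (M := M) x) ∈ GrTilde.tildeAt 𝒜 ℳ n x :=
  Submodule.subset_span ⟨i, j, ⟨b, hb⟩, ⟨s, hs⟩, hsx, h, rfl⟩

theorem mk_mem_twistAt {n : ℤ} {x : ProjectiveSpectrum 𝒜} {i j : ℕ} {b : A} {s : A} (hb : b ∈ 𝒜 i)
    (hs : s ∈ 𝒜 j) (hsx : s ∉ x.asHomogeneousIdeal) (h : (i : ℤ) = j + n) :
    (Localization.mk b ⟨s, hsx⟩ : Twist.Loc 𝒜 x) ∈ Twist.twistAt 𝒜 n x :=
  Submodule.subset_span ⟨i, j, ⟨b, hb⟩, ⟨s, hs⟩, hsx, h, rfl⟩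

variable [SetLike.GradedSMul 𝒜 ℳ]

/-- Products of degree-`m` and degree-`n` fractions have degree `n + m`. -/
theorem smul_mem_tildeAt {n m r : ℤ} (h : n + m = r) {x : ProjectiveSpectrum 𝒜} {p : Twist.Loc 𝒜 x}
    {q : GrTilde.LocMod 𝒜 (M := M) x} (hp : p ∈ Twist.twistAt 𝒜 m x) (hq : q ∈ GrTilde.tildeAt 𝒜 ℳ n x) :
    p • q ∈ GrTilde.tildeAt 𝒜 ℳ r x := by
  induction hp using Submodule.span_induction with
  | mem p hp =>
    obtain ⟨i, j, a, s, hs, hdeg, rfl⟩ := hp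
    induction hq using Submodule.span_induction with
    | mem q hq =>
      obtain ⟨i', j', b, t, ht, hdeg', rfl⟩ := hq
      rw [LocalizedModule.mk_smul_mk]
      exact mk_mem_tildeAt (SetLike.GradedSMul.smul_mem a.2 b.2) (SetLike.mul_mem_graded s.2 t.2)
        (fun hc => (x.isPrime.mem_or_mem hc).elim hs ht) (i := i + i') (j := j + j') (by omega)
    | zero => rw [smul_zero]; exact Submodule.zero_mem _
    | add q q' _ _ hq hq' => rw [smul_add]; exact Submodule.add_mem _ hq hq'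
    | smul c q _ hq =>
      rw [GrTilde.a0_smul_def, smul_comm]
      exact Submodule.smul_mem _ c hq
  | zero => rw [zero_smul]; exact Submodule.zero_mem _
  | add p p' _ _ hp hp' => rw [add_smul]; exact Submodule.add_mem _ hp hp'
  | smul c p _ hp =>
    rw [Algebra.smul_def, mul_smul]
    exact Submodule.smul_mem _ c hp

/-- Pointwise product of a section of `M(n)~` and a section of `O(m)`. -/
noncomputable def pairSect {n m r : ℤ} (h : n + m = r) {U : (Opens (ProjectiveSpectrum.top 𝒜))ᵒᵖ}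
    (q : GrTilde.sect 𝒜 ℳ n U) (p : Twist.sectN (𝒜 := 𝒜) m U) : GrTilde.sect 𝒜 ℳ r U :=
  ⟨fun x => ⟨(p.1 x).1 • (q.1 x).1, smul_mem_tildeAt h (p.1 x).2 (q.1 x).2⟩, fun x => by
    obtain ⟨Vp, mp, ip, i, j, ⟨a, a_mem⟩, ⟨s, s_mem⟩, ninp, cp, wp⟩ := p.2 x
    obtain ⟨Vq, mq, iq, i', j', ⟨b, b_mem⟩, ⟨t, t_mem⟩, ninq, cq, wq⟩ := q.2 x
    replace cp : (i : ℤ) = j + m ∨ a = 0 := cp
    replace cq : (i' : ℤ) = j' + n ∨ b = 0 := cq
    have nin : ∀ y : (Vp ⊓ Vq : Opens _), s * t ∉ y.1.asHomogeneousIdeal := fun y hc =>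
      (y.1.isPrime.mem_or_mem hc).elim (ninp ⟨y.1, y.2.1⟩) (ninq ⟨y.1, y.2.2⟩)
    refine ⟨Vp ⊓ Vq, ⟨mp, mq⟩, Opens.infLELeft _ _ ≫ ip, i + i', j + j',
      ⟨a • b, SetLike.GradedSMul.smul_mem a_mem b_mem⟩, ⟨s * t, SetLike.mul_mem_graded s_mem t_mem⟩, nin, ?_,
      fun y => ?_⟩
    · rcases cp with hp | hp
      · rcases cq with hq | hq
        · exact Or.inl (by push_cast; omega)
        · exact Or.inr (show a • b = 0 by rw [hq, smul_zero])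
      · exact Or.inr (show a • b = 0 by rw [hp, zero_smul])
    · have e1 := wp ⟨y.1, y.2.1⟩
      have e2 := wq ⟨y.1, y.2.2⟩
      dsimp only at e1 e2 ⊢
      erw [e1, e2, LocalizedModule.mk_smul_mk]
      rfl⟩

theorem pairSect_val {n m r : ℤ} (h : n + m = r) {U : (Opens (ProjectiveSpectrum.top 𝒜))ᵒᵖ}
    (q : GrTilde.sect 𝒜 ℳ n U) (p : Twist.sectN (𝒜 := 𝒜) m U) (x : U.unop) :
    ((pairSect h q p).1 x).1 = (p.1 x).1 • (q.1 x).1 := rfl

/-- Two sections of `M(n)~` with the same values are equal. -/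
theorem sect_ext {n : ℤ} {U : (Opens (ProjectiveSpectrum.top 𝒜))ᵒᵖ} {s t : GrTilde.sect 𝒜 ℳ n U}
    (h : ∀ x : U.unop, (s.1 x).1 = (t.1 x).1) : s = t :=
  Subtype.ext (funext fun x => Subtype.ext (h x))

omit [SetLike.GradedSMul 𝒜 ℳ] in
/-- Two sections of `O(n)` with the same values are equal. -/
theorem sectN_ext {n : ℤ} {U : (Opens (ProjectiveSpectrum.top 𝒜))ᵒᵖ} {s t : Twist.sectN (𝒜 := 𝒜) n U}
    (h : ∀ x : U.unop, (s.1 x).1 = (t.1 x).1) : s = t :=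
  Subtype.ext (funext fun x => Subtype.ext (h x))

/-- The section of `O(m)` over `U` given by one fraction. -/
noncomputable def fracSect {m : ℤ} (U : Opens (ProjectiveSpectrum.top 𝒜)) {i j : ℕ} (g : 𝒜 i) (h : 𝒜 j)
    (hh : ∀ x : U, h.1 ∉ x.1.asHomogeneousIdeal) (hdeg : (i : ℤ) = j + m) :
    Twist.sectN (𝒜 := 𝒜) m (op U) :=
  ⟨fun x => ⟨Localization.mk g.1 ⟨h.1, hh x⟩, mk_mem_twistAt g.2 h.2 (hh x) hdeg⟩,
    fun x => ⟨U, x.2, 𝟙 _, i, j, g, h, hh, Or.inl hdeg, fun _ => rfl⟩⟩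

/-- Restriction of a section of `O(n)`. -/
noncomputable def resT {n : ℤ} {V U : Opens (ProjectiveSpectrum.top 𝒜)} (i : V ≤ U)
    (s : Twist.sectN (𝒜 := 𝒜) n (op U)) : Twist.sectN (𝒜 := 𝒜) n (op V) :=
  Twist.resN n (homOfLE i).op s

omit [SetLike.GradedSMul 𝒜 ℳ] in
/-- A degree-zero fraction section is a regular function. -/
theorem exists_regular_of_twist_zero {U : Opens (ProjectiveSpectrum.top 𝒜)}
    (q : Twist.sectN (𝒜 := 𝒜) 0 (op U)) :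
    ∃ c : Twist.O (𝒜 := 𝒜) (op U), ∀ x : U, (c.1 x).val = (q.1 x).1 := by
  have key : ∀ x : U, ∃ (V : Opens (ProjectiveSpectrum.top 𝒜)) (_ : x.1 ∈ V) (ι : V ⟶ U) (j : ℕ)
      (a s : 𝒜 j) (hs : ∀ y : V, s.1 ∉ y.1.asHomogeneousIdeal),
      ∀ y : V, (q.1 (ι y)).1 = Localization.mk a.1 ⟨s.1, hs y⟩ := by
    intro x
    obtain ⟨V, hV, ι, i, j, ⟨a, ha⟩, s, hs, hdeg, hw⟩ := q.2 x
    replace hdeg : (i : ℤ) = j + 0 ∨ a = 0 := hdeg
    refine ⟨V, hV, ι, j, ⟨a, ?_⟩, s, hs, hw⟩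
    rcases hdeg with h | h
    · obtain rfl : i = j := by omega
      exact ha
    · rw [h]; exact Submodule.zero_mem _
  choose V hV ι j a s hs hw using key
  let c : ∀ x : U, Twist.A0 𝒜 x.1 := fun x =>
    HomogeneousLocalization.mk ⟨j x, a x, s x, hs x ⟨x.1, hV x⟩⟩
  have hc : ∀ x : U, (c x).val = (q.1 x).1 := fun x => by
    rw [HomogeneousLocalization.val_mk]
    exact (hw x ⟨x.1, hV x⟩).symm
  refine ⟨⟨c, fun x => ⟨V x, hV x, ι x, j x, a x, s x, fun y => hs x y, fun y => ?_⟩⟩, hc⟩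
  apply HomogeneousLocalization.val_injective
  rw [HomogeneousLocalization.val_mk]
  exact (hc _).trans (hw x y)

omit [SetLike.GradedSMul 𝒜 ℳ] in
/-- Scalar multiplication by a regular function, on values. -/
theorem smulT_val {n : ℤ} {U : Opens (ProjectiveSpectrum.top 𝒜)} (c : Twist.O (𝒜 := 𝒜) (op U))
    (q : Twist.sectN (𝒜 := 𝒜) n (op U)) (x : U) : ((c • q).1 x).1 = (c.1 x).val * (q.1 x).1 :=
  Twist.coe_smul_val _ _ _ _

theorem smul_val {n : ℤ} {U : Opens (ProjectiveSpectrum.top 𝒜)} (c : Twist.O (𝒜 := 𝒜) (op U))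
    (q : GrTilde.sect 𝒜 ℳ n (op U)) (x : U) : ((c • q).1 x).1 = (c.1 x).val • (q.1 x).1 :=
  GrTilde.coe_smul_val _ _ _ _

omit [SetLike.GradedSMul 𝒜 ℳ] in
/-- Inverse fractions multiply to one. -/
theorem mk_mul_mk_swap {x : ProjectiveSpectrum 𝒜} {g h : A} (hg : g ∉ x.asHomogeneousIdeal)
    (hh : h ∉ x.asHomogeneousIdeal) :
    (Localization.mk g ⟨h, hh⟩ * Localization.mk h ⟨g, hg⟩ : Twist.Loc 𝒜 x) = 1 := by
  rw [Localization.mk_mul, ← Localization.mk_self (⟨h * g, fun hc =>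
    (x.isPrime.mem_or_mem hc).elim hh hg⟩ : x.asHomogeneousIdeal.toIdeal.primeCompl)]
  congr 1
  exact mul_comm _ _

omit [SetLike.GradedSMul 𝒜 ℳ] in
/-- Multiplication by a nowhere vanishing fraction of degree `m` identifies `O` with `O(m)`. -/
theorem bijective_smul_fracSect {m : ℤ} {W : Opens (ProjectiveSpectrum.top 𝒜)}
    {i j : ℕ} (g : 𝒜 i) (h : 𝒜 j) (hg : ∀ x : W, g.1 ∉ x.1.asHomogeneousIdeal)
    (hh : ∀ x : W, h.1 ∉ x.1.asHomogeneousIdeal) (hdeg : (i : ℤ) = j + m) :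
    Function.Bijective fun c : Twist.O (𝒜 := 𝒜) (op W) => (c • fracSect W g h hh hdeg : Twist.sectN (𝒜 := 𝒜) m (op W)) := by
  refine ⟨fun c c' hcc => Subtype.ext (funext fun x => HomogeneousLocalization.val_injective _ ?_),
    fun t => ?_⟩
  · have h1 : ((c • fracSect W g h hh hdeg).1 x).1 = ((c' • fracSect W g h hh hdeg).1 x).1 :=
      congrArg (fun s : Twist.sectN (𝒜 := 𝒜) m (op W) => (s.1 x).1) hcc
    rw [smulT_val, smulT_val] at h1
    have h2 := congrArg (· * Localization.mk h.1 ⟨g.1, hg x⟩) h1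
    simp only [mul_assoc] at h2
    erw [mk_mul_mk_swap (hg x) (hh x), mul_one, mul_one] at h2
    exact h2
  · obtain ⟨c, hc⟩ := exists_regular_of_twist_zero
      (show Twist.sectN (𝒜 := 𝒜) 0 (op W) from pairSect (ℳ := 𝒜) (m := -m) (add_neg_cancel m)
        t (fracSect W h g hg (by omega)))
    refine ⟨c, sectN_ext fun x => ?_⟩
    refine (smulT_val c _ x).trans ?_
    rw [hc x]
    show (Localization.mk h.1 ⟨g.1, hg x⟩ * (t.1 x).1) * Localization.mk g.1 ⟨h.1, hh x⟩ = (t.1 x).1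
    rw [mul_comm (Localization.mk h.1 _) (t.1 x).1, mul_assoc, mul_comm (Localization.mk h.1 _),
      mk_mul_mk_swap (hg x) (hh x), mul_one]

variable (𝒜) in
/-- `O(m)` has near every point a nowhere vanishing fraction. -/
def HasUnit (m : ℤ) : Prop :=
  ∀ x : ProjectiveSpectrum 𝒜, ∃ (i j : ℕ) (g : 𝒜 i) (h : 𝒜 j),
    g.1 ∉ x.asHomogeneousIdeal ∧ h.1 ∉ x.asHomogeneousIdeal ∧ (i : ℤ) = j + m

omit [SetLike.GradedSMul 𝒜 ℳ] in
/-- An element of degree `d` not in `x` gives degree-`k * d` unit fractions at `x`. -/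
theorem exists_unit_frac {x : ProjectiveSpectrum 𝒜} {d : ℕ} {f : A} (hf : f ∈ 𝒜 d)
    (hfx : f ∉ x.asHomogeneousIdeal) (k : ℤ) :
    ∃ (i j : ℕ) (g : 𝒜 i) (h : 𝒜 j),
      g.1 ∉ x.asHomogeneousIdeal ∧ h.1 ∉ x.asHomogeneousIdeal ∧ (i : ℤ) = j + k * d := by
  have h1 : (1 : A) ∉ x.asHomogeneousIdeal := fun h => x.isPrime.ne_top ((Ideal.eq_top_iff_one _).mpr h)
  have hp : ∀ l : ℕ, f ^ l ∉ x.asHomogeneousIdeal := fun l h => hfx (x.isPrime.mem_of_pow_mem l h)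
  have hm : ∀ l : ℕ, f ^ l ∈ 𝒜 (l * d) := fun l => by simpa [smul_eq_mul] using SetLike.pow_mem_graded l hf
  obtain ⟨l, rfl | rfl⟩ := Int.eq_nat_or_neg k
  · exact ⟨l * d, 0, ⟨_, hm l⟩, ⟨1, SetLike.GradedOne.one_mem⟩, hp l, h1, by push_cast; ring⟩
  · exact ⟨0, l * d, ⟨1, SetLike.GradedOne.one_mem⟩, ⟨_, hm l⟩, h1, hp l, by push_cast; ring⟩

omit [SetLike.GradedSMul 𝒜 ℳ] in
theorem hasUnit_of_cover {d : ℕ} (h : ∀ x : ProjectiveSpectrum 𝒜, ∃ f ∈ 𝒜 d, f ∉ x.asHomogeneousIdeal)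
    (k : ℤ) : HasUnit 𝒜 (k * d) := fun x => by
  obtain ⟨f, hf, hfx⟩ := h x
  exact exists_unit_frac hf hfx k

omit [SetLike.GradedSMul 𝒜 ℳ] in
theorem exists_degree_one_notMem (hgen : (HomogeneousIdeal.irrelevant 𝒜).toIdeal ≤ Ideal.span (𝒜 1 : Set A))
    (x : ProjectiveSpectrum 𝒜) : ∃ f ∈ 𝒜 1, f ∉ x.asHomogeneousIdeal := by
  by_contra hc
  push Not at hc
  exact x.not_irrelevant_le (hgen.trans (Ideal.span_le.mpr fun f hf => hc f hf))

omit [SetLike.GradedSMul 𝒜 ℳ] in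
theorem hasUnit_of_generated (hgen : (HomogeneousIdeal.irrelevant 𝒜).toIdeal ≤ Ideal.span (𝒜 1 : Set A))
    (m : ℤ) : HasUnit 𝒜 m := by
  simpa using hasUnit_of_cover (exists_degree_one_notMem hgen) m

omit [SetLike.GradedSMul 𝒜 ℳ] in
/-- On an open where a degree-`m` fraction is invertible, `O(m)` is trivial. -/
theorem nonempty_restrict_twist_iso {m : ℤ} (U : (Proj 𝒜).Opens)
    {i j : ℕ} (g : 𝒜 i) (h : 𝒜 j) (hg : ∀ x : U, g.1 ∉ x.1.asHomogeneousIdeal)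
    (hh : ∀ x : U, h.1 ∉ x.1.asHomogeneousIdeal) (hdeg : (i : ℤ) = j + m) :
    Nonempty ((Twist.twist 𝒜 m).restrict U.ι ≅ Coh.structureModule (↑U : Scheme.{u})) :=
  nonempty_restrict_iso_structureModule (Twist.twist 𝒜 m) U (fracSect U g h hh hdeg) fun W hW =>
    bijective_smul_fracSect (W := W) g h (fun x => hg ⟨x.1, hW x.2⟩) (fun x => hh ⟨x.1, hW x.2⟩) hdeg

omit [SetLike.GradedSMul 𝒜 ℳ] in
theorem isInvertible_twist {m : ℤ} (hm : HasUnit 𝒜 m) :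
    PicF.IsInvertible (Twist.twist 𝒜 m) := fun x => by
  obtain ⟨i, j, g, h, hg, hh, hdeg⟩ := hm x
  refine ⟨Proj.basicOpen 𝒜 (g.1 * h.1), fun hc => (x.isPrime.mem_or_mem hc).elim hg hh,
    nonempty_restrict_twist_iso _ g h ?_ ?_ hdeg⟩
  · exact fun y hc => y.2 (Ideal.mul_mem_right _ _ hc)
  · exact fun y hc => y.2 (Ideal.mul_mem_left _ _ hc)

end Groth.Agent.ProjTwist
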