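import Groth.Agent.ProjTwist.Frac
import Groth.Agent.ProjTwist.Basic
import Groth.Agent.GrBasics.Core
import Mathlib.RingTheory.Noetherian.Basic
import Mathlib.RingTheory.Ideal.Operations

/-!
# Stalks and vanishing of `M(n)~`
-/

set_option autoImplicit false
universe u
open CategoryTheory CategoryTheory.Limits AlgebraicGeometry Opposite TopologicalSpace DirectSum

namespace Groth.Agent.ProjTwist

set_option synthInstance.maxHeartbeats 400000
set_option maxHeartbeats 1600000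

variable {R A : Type u} [CommRing R] [CommRing A] [Algebra R A] (𝒜 : ℕ → Submodule R A) [GradedAlgebra 𝒜]
variable {M : Type u} [AddCommGroup M] [Module R M] [Module A M] (ℳ : ℕ → Submodule R M)
  [SetLike.GradedSMul 𝒜 ℳ]

theorem exists_pos_notMem (x : ProjectiveSpectrum 𝒜) :
    ∃ (d : ℕ) (f : A), 0 < d ∧ f ∈ 𝒜 d ∧ f ∉ x.asHomogeneousIdeal := by
  classical
  by_contra hc
  push Not at hc
  refine x.not_irrelevant_le fun a ha => ?_
  rw [← DirectSum.sum_support_decompose 𝒜 a]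
  refine Ideal.sum_mem _ fun i _ => ?_
  rcases Nat.eq_zero_or_pos i with rfl | hi
  · rw [(GradedRing.proj_apply (𝒜 := 𝒜) 0 a).symm.trans
      ((HomogeneousIdeal.mem_irrelevant_iff 𝒜 a).mp ha)]
    exact Submodule.zero_mem _
  · exact hc i _ hi (decompose 𝒜 a i).2

/-- Every element of `tildeAt` is one fraction. -/
theorem exists_eq_mk {n : ℤ} {x : ProjectiveSpectrum 𝒜} {q : GrTilde.LocMod 𝒜 (M := M) x}
    (hq : q ∈ GrTilde.tildeAt 𝒜 ℳ n x) :
    ∃ (i j : ℕ) (b : M) (s : A) (_ : b ∈ ℳ i) (_ : s ∈ 𝒜 j) (hs : s ∉ x.asHomogeneousIdeal),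
      ((i : ℤ) = j + n ∨ b = 0) ∧ q = LocalizedModule.mk b ⟨s, hs⟩ := by
  induction hq using Submodule.span_induction with
  | mem q hq =>
    obtain ⟨i, j, b, s, hs, h, rfl⟩ := hq
    exact ⟨i, j, b.1, s.1, b.2, s.2, hs, Or.inl h, rfl⟩
  | zero =>
    exact ⟨0, 0, 0, 1, Submodule.zero_mem _, SetLike.GradedOne.one_mem,
      fun h => x.isPrime.ne_top ((Ideal.eq_top_iff_one _).mpr h), Or.inr rfl, (LocalizedModule.zero_mk _).symm⟩
  | add a b _ _ ha hb =>
    obtain ⟨i, j, p, s, hp, hsm, hs, hd, rfl⟩ := ha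
    obtain ⟨i', j', p', t, hp', htm, ht, hd', rfl⟩ := hb
    rw [LocalizedModule.mk_add_mk]
    have hst : s * t ∉ x.asHomogeneousIdeal := fun h => (x.isPrime.mem_or_mem h).elim hs ht
    rcases hd with hd | hd
    · rcases hd' with hd' | hd'
      · refine ⟨j' + i, j + j', t • p + s • p', s * t, add_mem (SetLike.GradedSMul.smul_mem htm hp) ?_,
          SetLike.mul_mem_graded hsm htm, hst, Or.inl (by push_cast; omega), rfl⟩
        have e : j' + i = j + i' := by omega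
        rw [e]
        exact SetLike.GradedSMul.smul_mem hsm hp'
      · refine ⟨j' + i, j + j', t • p + s • p', s * t, ?_, SetLike.mul_mem_graded hsm htm, hst,
          Or.inl (by push_cast; omega), rfl⟩
        rw [hd', smul_zero, add_zero]
        exact SetLike.GradedSMul.smul_mem htm hp
    · refine ⟨j + i', j + j', t • p + s • p', s * t, ?_, SetLike.mul_mem_graded hsm htm, hst, ?_, rfl⟩
      · rw [hd, smul_zero, zero_add]
        exact SetLike.GradedSMul.smul_mem hsm hp'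
      · rcases hd' with hd' | hd'
        · exact Or.inl (by push_cast; omega)
        · exact Or.inr (by rw [hd, hd', smul_zero, smul_zero, add_zero])
  | smul c a _ ha =>
    obtain ⟨i, j, p, s, hp, hsm, hs, hd, rfl⟩ := ha
    obtain ⟨⟨k, ⟨r, hr⟩, ⟨t, htm⟩, ht⟩, rfl⟩ := HomogeneousLocalization.mk_surjective c
    refine ⟨k + i, k + j, r • p, t * s, SetLike.GradedSMul.smul_mem hr hp, SetLike.mul_mem_graded htm hsm,
      fun h => (x.isPrime.mem_or_mem h).elim ht hs, ?_, ?_⟩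
    · rcases hd with hd | hd
      · exact Or.inl (by push_cast; omega)
      · exact Or.inr (by rw [hd, smul_zero])
    · rw [GrTilde.a0_smul_def, HomogeneousLocalization.val_mk, LocalizedModule.mk_smul_mk]
      rfl

/-- A section is zero if it is zero at each point. -/
theorem isZero_tilde {n : ℤ}
    (h : ∀ (U : Opens (ProjectiveSpectrum.top 𝒜)) (s : GrTilde.sect 𝒜 ℳ n (op U)) (x : U), (s.1 x).1 = 0) :
    IsZero (GrTilde.tilde 𝒜 ℳ n) := by
  rw [IsZero.iff_id_eq_zero]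
  refine Scheme.Modules.hom_ext _ _ fun U => ?_
  ext s
  exact sect_ext (𝒜 := 𝒜) (ℳ := ℳ) fun x => h U s x

variable [IsScalarTower R A M] [DirectSum.Decomposition ℳ]

omit [IsScalarTower R A M] in
theorem stalkToFiber_bijective (n : ℤ) (p : ProjectiveSpectrum.top 𝒜) :
    Function.Bijective (TopCat.stalkToFiber (GrTilde.isLocFrac 𝒜 ℳ n) p) := by
  classical
  refine ⟨TopCat.stalkToFiber_injective _ _ fun U V fU hU fV hV he => ?_,
    TopCat.stalkToFiber_surjective _ _ fun t => ?_⟩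
  · obtain ⟨U', hpU, iU, i, j, ⟨a, ha⟩, ⟨s, hsm⟩, hs, hd, hw⟩ := hU ⟨p, U.2⟩
    obtain ⟨V', hpV, iV, i', j', ⟨b, hb⟩, ⟨t, htm⟩, ht, hd', hw'⟩ := hV ⟨p, V.2⟩
    replace hd : (i : ℤ) = j + n ∨ a = 0 := hd
    replace hd' : (i' : ℤ) = j' + n ∨ b = 0 := hd'
    obtain ⟨e, hmem⟩ : ∃ e : ℕ, t • a - s • b ∈ ℳ e := by
      rcases hd with h1 | h1
      · rcases hd' with h2 | h2
        · refine ⟨j' + i, sub_mem (SetLike.GradedSMul.smul_mem htm ha) ?_⟩
          have e : j' + i = j + i' := by omega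
          rw [e]
          exact SetLike.GradedSMul.smul_mem hsm hb
        · exact ⟨j' + i, by rw [h2, smul_zero, sub_zero]; exact SetLike.GradedSMul.smul_mem htm ha⟩
      · exact ⟨j + i', by rw [h1, smul_zero, zero_sub]; exact neg_mem (SetLike.GradedSMul.smul_mem hsm hb)⟩
    have hval : (LocalizedModule.mk a ⟨s, hs ⟨p, hpU⟩⟩ : GrTilde.LocMod 𝒜 (M := M) p) =
        LocalizedModule.mk b ⟨t, ht ⟨p, hpV⟩⟩ :=
      ((hw ⟨p, hpU⟩).symm.trans (congrArg Subtype.val he)).trans (hw' ⟨p, hpV⟩)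
    obtain ⟨u, hu⟩ := LocalizedModule.mk_eq.mp hval
    obtain ⟨k, huk⟩ : ∃ k, (decompose 𝒜 u.1 k : A) ∉ p.asHomogeneousIdeal := by
      by_contra hc
      push Not at hc
      refine u.2 ?_
      rw [← DirectSum.sum_support_decompose 𝒜 u.1]
      exact Ideal.sum_mem _ fun k _ => hc k
    have hu0 : (decompose 𝒜 u.1 k : A) • (t • a - s • b) = 0 := by
      have h0 : u.1 • (t • a - s • b) = 0 := by
        rw [smul_sub, sub_eq_zero]; exact hu
      have hsum : ((decompose ℳ (u.1 • (t • a - s • b)) (k + e) : ℳ (k + e)) : M) =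
          (decompose 𝒜 u.1 k : A) • (t • a - s • b) := by
        conv_lhs => rw [← DirectSum.sum_support_decompose 𝒜 u.1, Finset.sum_smul, DirectSum.decompose_sum,
          DFinsupp.finsetSum_apply, AddSubmonoidClass.coe_finsetSum]
        rw [Finset.sum_eq_single k]
        · exact decompose_of_mem_same ℳ (SetLike.GradedSMul.smul_mem (decompose 𝒜 u.1 k).2 hmem)
        · intro c _ hc
          exact decompose_of_mem_ne ℳ (SetLike.GradedSMul.smul_mem (decompose 𝒜 u.1 c).2 hmem)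
            (fun e' => hc (Nat.add_right_cancel e'))
        · intro hk
          rw [DFinsupp.notMem_support_iff.mp hk]
          simp
      rw [← hsum, h0]
      simp
    let W : Opens (ProjectiveSpectrum.top 𝒜) :=
      U' ⊓ V' ⊓ ProjectiveSpectrum.basicOpen 𝒜 (decompose 𝒜 u.1 k : A)
    refine ⟨⟨W, ⟨⟨hpU, hpV⟩, huk⟩⟩, homOfLE (fun y hy => leOfHom iU hy.1.1),
      homOfLE (fun y hy => leOfHom iV hy.1.2), fun w => Subtype.ext ?_⟩
    refine (hw ⟨w.1, w.2.1.1⟩).trans (Eq.trans ?_ (hw' ⟨w.1, w.2.1.2⟩).symm)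
    rw [LocalizedModule.mk_eq]
    refine ⟨⟨_, w.2.2⟩, ?_⟩
    rw [smul_sub, sub_eq_zero] at hu0
    exact hu0
  · obtain ⟨i, j, b, s, hb, hsm, hs, hd, he⟩ := exists_eq_mk 𝒜 ℳ t.2
    have hd' : ∀ y : ProjectiveSpectrum 𝒜, (hy : s ∉ y.asHomogeneousIdeal) →
        (LocalizedModule.mk b ⟨s, hy⟩ : GrTilde.LocMod 𝒜 (M := M) y) ∈ GrTilde.tildeAt 𝒜 ℳ n y := fun y hy => by
      rcases hd with hd | hd
      · exact mk_mem_tildeAt hb hsm hy hd
      · rw [hd, LocalizedModule.zero_mk]; exact Submodule.zero_mem _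
    refine ⟨⟨ProjectiveSpectrum.basicOpen 𝒜 s, hs⟩, fun y => ⟨_, hd' y.1 y.2⟩,
      fun y => ⟨ProjectiveSpectrum.basicOpen 𝒜 s, y.2, 𝟙 _, i, j, ⟨b, hb⟩, ⟨s, hsm⟩, fun z => z.2, hd,
        fun _ => rfl⟩, Subtype.ext he.symm⟩

omit [IsScalarTower R A M] [DirectSum.Decomposition ℳ] in
/-- If every element is killed by powers of positive-degree elements, the module gives zero. -/
theorem isZero_tilde_of_torsion (n : ℤ) (h : ∀ (z : M) (d : ℕ) (f : A), 0 < d → f ∈ 𝒜 d → ∃ k : ℕ, f ^ k • z = 0) :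
    IsZero (GrTilde.tilde 𝒜 ℳ n) := isZero_tilde 𝒜 ℳ fun U s x => by
  obtain ⟨d, f, hd, hf, hfx⟩ := exists_pos_notMem 𝒜 x.1
  obtain ⟨e, i, g, b, hg, he, hb, -, hxg, -, hgU, hval⟩ := exists_frac_pos 𝒜 ℳ n s x hd hf hfx
  obtain ⟨k, hk⟩ := h b e g he hg
  obtain ⟨(y : ProjectiveSpectrum 𝒜), hy⟩ := x
  rw [hval y hxg hy, ← LocalizedModule.zero_mk (S := y.asHomogeneousIdeal.toIdeal.primeCompl) 1,
    LocalizedModule.mk_eq]
  exact ⟨⟨g ^ k, fun hc => hxg (y.isPrime.mem_of_pow_mem k hc)⟩, by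
    simp only [Submonoid.smul_def, one_smul, smul_zero]; exact hk⟩

/-- If `M~ = 0` and the irrelevant ideal is generated in degree one, homogeneous elements are torsion. -/
theorem pow_smul_eq_zero_of_isZero (hgen : (HomogeneousIdeal.irrelevant 𝒜).toIdeal ≤ Ideal.span (𝒜 1 : Set A))
    (h : IsZero (GrTilde.tilde 𝒜 ℳ 0)) {i : ℕ} {z : M} (hz : z ∈ ℳ i) {d : ℕ} {f : A} (hd : 0 < d)
    (hf : f ∈ 𝒜 d) : ∃ k : ℕ, f ^ k • z = 0 := by
  refine Groth.Agent.S3587.result 𝒜 ℳ hd hf 0 i ⟨z, hz⟩ ?_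
  rintro ⟨x, hx⟩
  obtain ⟨g, hg, hgx⟩ := exists_degree_one_notMem hgen x
  have hgi : g ^ i ∈ 𝒜 i := by simpa using SetLike.pow_mem_graded i hg
  let U := ProjectiveSpectrum.basicOpen 𝒜 g
  let s : GrTilde.sect 𝒜 ℳ 0 (op U) :=
    ⟨fun y => ⟨LocalizedModule.mk z ⟨g ^ i, fun hc => y.2 (y.1.isPrime.mem_of_pow_mem i hc)⟩,
      mk_mem_tildeAt hz hgi _ (by simp)⟩,
     fun y => ⟨U, y.2, 𝟙 _, i, i, ⟨z, hz⟩, ⟨_, hgi⟩, fun w hc => w.2 (w.1.isPrime.mem_of_pow_mem i hc),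
      Or.inl (by simp), fun _ => rfl⟩⟩
  have hid := (IsZero.iff_id_eq_zero _).mp h
  have hs : s = 0 := congrArg (fun φ : GrTilde.tilde 𝒜 ℳ 0 ⟶ GrTilde.tilde 𝒜 ℳ 0 => φ.app U s) hid
  have h0 : (LocalizedModule.mk z ⟨g ^ i, fun hc => hgx (x.isPrime.mem_of_pow_mem i hc)⟩ :
      GrTilde.LocMod 𝒜 (M := M) x) = 0 :=
    congrArg (fun v : GrTilde.sect 𝒜 ℳ 0 (op U) => (v.1 ⟨x, hgx⟩).1) hs
  rw [← LocalizedModule.zero_mk (S := x.asHomogeneousIdeal.toIdeal.primeCompl) 1, LocalizedModule.mk_eq] at h0 ⊢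
  obtain ⟨u, hu⟩ := h0
  exact ⟨u, by simpa [Submonoid.smul_def] using hu⟩

/-- With degree-one generators, degree `k` lies in the `k`-th power of the irrelevant ideal. -/
theorem mem_irrelevant_pow (hgen : (HomogeneousIdeal.irrelevant 𝒜).toIdeal ≤ Ideal.span (𝒜 1 : Set A)) :
    ∀ {k : ℕ} {x : A}, x ∈ 𝒜 k → x ∈ (HomogeneousIdeal.irrelevant 𝒜).toIdeal ^ k := by
  classical
  intro k
  induction k with
  | zero => intro x _; rw [pow_zero, Ideal.one_eq_top]; exact Submodule.mem_top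
  | succ k ih =>
    intro x hx
    have hxI : x ∈ (HomogeneousIdeal.irrelevant 𝒜).toIdeal :=
      HomogeneousIdeal.mem_irrelevant_of_mem 𝒜 k.succ_pos hx
    obtain ⟨c, T, hT, -, hc⟩ := Submodule.mem_span_iff_exists_finset_subset.mp (hgen hxI)
    rw [← decompose_of_mem_same 𝒜 hx, ← hc, DirectSum.decompose_sum, DFinsupp.finsetSum_apply,
      AddSubmonoidClass.coe_finsetSum, pow_succ]
    refine Ideal.sum_mem _ fun t ht => ?_
    rw [smul_eq_mul, GrBasics.decompose_mul_mem 𝒜 (hT ht)]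
    split_ifs
    · exact Ideal.mul_mem_mul (ih (decompose 𝒜 (c t) k).2)
        (HomogeneousIdeal.mem_irrelevant_of_mem 𝒜 one_pos (hT ht))
    · exact Submodule.zero_mem _

end Groth.Agent.ProjTwist
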