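import Groth.Agent.ProjTwist.QCoh
import Groth.Agent.ProjTwist.Basic
import Groth.Agent.ProjGamma.Reg
import Groth.Agent.GrBasics.Core
import Groth.Agent.QCohLib.FiniteType
import Groth.Prelude.Def_CohB1

/-!
# `M~` is of finite type when `M` is finitely generated in high degrees
-/

set_option autoImplicit false
universe u
open CategoryTheory AlgebraicGeometry Opposite TopologicalSpace DirectSum
open scoped Pointwise

namespace Groth.Agent.ProjTwist

set_option synthInstance.maxHeartbeats 400000
set_option maxHeartbeats 1600000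

variable {R A : Type u} [CommRing R] [CommRing A] [Algebra R A] (𝒜 : ℕ → Submodule R A) [GradedAlgebra 𝒜]
variable {M : Type u} [AddCommGroup M] [Module R M] [Module A M] [IsScalarTower R A M] (ℳ : ℕ → Submodule R M)
  [DirectSum.Decomposition ℳ] [SetLike.GradedSMul 𝒜 ℳ]

/-- Graded pieces are finite over the degree-zero part. -/
theorem exists_finset_piece_le (hfg : (HomogeneousIdeal.irrelevant 𝒜).toIdeal.FG) (j : ℕ) :
    ∃ F : Finset A, (∀ μ ∈ F, μ ∈ 𝒜 j) ∧ 𝒜 j ≤ 𝒜 0 * Submodule.span R (F : Set A) := by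
  classical
  obtain ⟨s, hs, hsp⟩ := GrBasics.exists_finset_span_eq_irrelevant 𝒜 hfg
  choose! deg hpos hmem using hs
  induction j using Nat.strong_induction_on with
  | _ j ih =>
    rcases Nat.eq_zero_or_pos j with rfl | hj
    · refine ⟨{1}, by simpa using SetLike.one_mem_graded 𝒜, fun a ha => ?_⟩
      have := Submodule.mul_mem_mul ha
        (Submodule.subset_span (R := R) (Finset.mem_coe.mpr (Finset.mem_singleton_self (1 : A))))
      rwa [mul_one] at this
    choose F hFmem hFle using fun (e : s) (h : deg e ≤ j) => ih (j - deg e) (by have := hpos e e.2; omega)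
    let G : Finset A := Finset.univ.biUnion fun e : s => if h : deg e ≤ j then (F e h).image (· * (e : A)) else ∅
    refine ⟨G, ?_, fun a ha => ?_⟩
    · intro μ hμ
      obtain ⟨e, -, hμ⟩ := Finset.mem_biUnion.mp hμ
      split_ifs at hμ with h
      · obtain ⟨ν, hν, rfl⟩ := Finset.mem_image.mp hμ
        have := SetLike.mul_mem_graded (hFmem e h ν hν) (hmem e e.2)
        rwa [Nat.sub_add_cancel h] at this
      · simp at hμ
    have haI : a ∈ Ideal.span (s : Set A) := hsp ▸ HomogeneousIdeal.mem_irrelevant_of_mem 𝒜 hj ha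
    obtain ⟨c, hc⟩ := (Finsupp.mem_span_iff_linearCombination A (s : Set A) a).mp haI
    rw [← decompose_of_mem_same 𝒜 ha, ← hc, Finsupp.linearCombination_apply, Finsupp.sum,
      decompose_sum, DFinsupp.finsetSum_apply, AddSubmonoidClass.coe_finsetSum]
    refine Submodule.sum_mem _ fun e _ => ?_
    rw [smul_eq_mul, GrBasics.decompose_mul_mem 𝒜 (hmem e e.2)]
    split_ifs with h
    · have h1 := hFle e h (SetLike.coe_mem (decompose 𝒜 (c e) (j - deg e)))
      revert h1
      generalize (decompose 𝒜 (c e) (j - deg e) : A) = w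
      intro h1
      induction h1 using Submodule.mul_induction_on' with
      | mem_mul_mem u hu v hv =>
        rw [mul_assoc]
        refine Submodule.mul_mem_mul hu ?_
        have hle : Submodule.span R ((F e h : Set A)) ≤
            (Submodule.span R (G : Set A)).comap (LinearMap.mulRight R (e : A)) := by
          refine Submodule.span_le.mpr fun ν hν => Submodule.subset_span ?_
          exact Finset.mem_biUnion.mpr ⟨e, Finset.mem_univ e, by rw [dif_pos h]; exact Finset.mem_image_of_mem _ hν⟩
        exact hle hv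
      | add x _ y _ hx hy => rw [add_mul]; exact add_mem hx hy
    · exact zero_mem _

/-- The section `m / f ^ k` of `M~` over `D₊(f)`. -/
noncomputable def fracSec {d : ℕ} {f : A} (hf : f ∈ 𝒜 d) {k : ℕ} (m : ℳ (k * d)) :
    GrTilde.sect 𝒜 ℳ 0 (op (ProjectiveSpectrum.basicOpen 𝒜 f)) :=
  ⟨fun (x : ProjectiveSpectrum.basicOpen 𝒜 f) => ⟨LocalizedModule.mk m.1
        (⟨f ^ k, ProjGamma.notMem_pow x.2 k⟩ : x.1.asHomogeneousIdeal.toIdeal.primeCompl),
      mk_mem_tildeAt m.2 (by simpa [smul_eq_mul] using SetLike.pow_mem_graded k hf)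
        (ProjGamma.notMem_pow x.2 k) (i := k * d) (j := k * d) (by simp)⟩,
    fun x => ⟨_, x.2, 𝟙 _, k * d, k * d, m, ⟨f ^ k, by simpa [smul_eq_mul] using SetLike.pow_mem_graded k hf⟩,
      fun y h => y.2 (y.1.isPrime.mem_of_pow_mem k h), Or.inl (by simp), fun _ => rfl⟩⟩

/-- Sections of `M~` over `D₊(f)` form a finite module, if `M` is finitely generated in high degrees. -/
theorem finite_sections_tilde (hfg : (HomogeneousIdeal.irrelevant 𝒜).toIdeal.FG)
    (hTF : ∃ n : ℕ, (Submodule.span A (⋃ k ∈ Set.Ici n, (ℳ k : Set M))).FG) {d : ℕ} (hd : 0 < d) {f : A}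
    (hf : f ∈ 𝒜 d) :
    Module.Finite Γ(Proj 𝒜, Proj.basicOpen 𝒜 f) Γ(GrTilde.tilde 𝒜 ℳ 0, Proj.basicOpen 𝒜 f) := by
  classical
  obtain ⟨n, hn⟩ := hTF
  obtain ⟨E, hE, hEspan⟩ := Submodule.fg_span_iff_fg_span_finset_subset _ |>.mp hn
  have hEdeg : ∀ e : E, ∃ i, (e : M) ∈ ℳ i := fun e => by
    obtain ⟨i, -, hi⟩ := Set.mem_iUnion₂.mp (hE e.2)
    exact ⟨i, hi⟩
  choose di hdi using hEdeg
  obtain ⟨s, hs, hsp⟩ := GrBasics.exists_finset_span_eq_irrelevant 𝒜 hfg
  choose! deg hpos hmem using hs
  -- large degrees lie in the ideal of `d`-th powers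
  obtain ⟨N, hN⟩ : ∃ N, (HomogeneousIdeal.irrelevant 𝒜).toIdeal ^ N ≤ Ideal.span (Set.range fun e : s => (e : A) ^ d) := by
    refine Ideal.exists_pow_le_of_le_radical_of_fg ?_ hfg
    rw [hsp, Ideal.span_le]
    exact fun e he => ⟨d, Ideal.subset_span ⟨⟨e, he⟩, rfl⟩⟩
  obtain ⟨m₀, hm₀⟩ := GrBasics.exists_degree_bound 𝒜 hfg N
  choose F hFmem hFle using exists_finset_piece_le 𝒜 hfg
  let W : (Proj 𝒜).Opens := Proj.basicOpen 𝒜 f
  let sec : ∀ k, ℳ (k * d) → Γ(GrTilde.tilde 𝒜 ℳ 0, W) := fun k m => fracSec 𝒜 ℳ hf m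
  have hsec_add : ∀ k (a b : ℳ (k * d)), sec k (a + b) = sec k a + sec k b := fun k a b =>
    sect_ext (𝒜 := 𝒜) (ℳ := ℳ) fun x => by
      show LocalizedModule.mk (a.1 + b.1) _ = LocalizedModule.mk a.1 _ + LocalizedModule.mk b.1 _
      rw [LocalizedModule.mk_add_mk, LocalizedModule.mk_eq]
      exact ⟨1, by simp only [one_smul, Submonoid.smul_def, Submonoid.coe_mul, smul_add, mul_smul]⟩
  -- the finitely many generators
  let I := Σ e : E, Σ j : Fin (m₀ + 1), F (j : ℕ)
  let gen : I → Γ(GrTilde.tilde 𝒜 ℳ 0, W) := fun p =>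
    if h : ((p.2.1 : ℕ) + di p.1) / d * d = (p.2.1 : ℕ) + di p.1 then
      sec (((p.2.1 : ℕ) + di p.1) / d) ⟨(p.2.2 : A) • (p.1 : M),
        by rw [h]; exact SetLike.GradedSMul.smul_mem (A := 𝒜) (hFmem _ _ p.2.2.2) (hdi p.1)⟩
    else 0
  let T : Submodule Γ(Proj 𝒜, W) Γ(GrTilde.tilde 𝒜 ℳ 0, W) := Submodule.span _ (Set.range gen)
  -- multiplying by a regular fraction
  have hmul : ∀ (δ k : ℕ) (b : A) (hb : b ∈ 𝒜 (δ * d)) (m : ℳ (k * d)) (m' : ℳ ((δ + k) * d)),
      m'.1 = b • m.1 → sec k m ∈ T → sec (δ + k) m' ∈ T := by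
    intro δ k b hb m m' hm' hT
    have hfδ : f ^ δ ∈ 𝒜 (δ * d) := by simpa [smul_eq_mul] using SetLike.pow_mem_graded δ hf
    let c : Γ(Proj 𝒜, W) := ProjGamma.regFrac W b (f ^ δ) hb hfδ fun x => ProjGamma.notMem_pow x.2 δ
    have he : sec (δ + k) m' = c • sec k m := by
      refine sect_ext (𝒜 := 𝒜) (ℳ := ℳ) fun x => Eq.symm ((smul_val (U := W) _ _ x).trans ?_)
      refine (congrArg (· • _) (ProjGamma.rval_regFrac W b (f ^ δ) hb hfδ
        (fun x => ProjGamma.notMem_pow x.2 δ) x.1 x.2)).trans ?_
      refine (LocalizedModule.mk_smul_mk _ _ _ _).trans ?_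
      show _ = LocalizedModule.mk m'.1 _
      rw [hm']
      congr 1
      exact Subtype.ext (pow_add f δ k).symm
    rw [he]
    exact T.smul_mem _ hT
  have main : ∀ (j : ℕ) (e : E) (k : ℕ) (hjk : k * d = j + di e) (c : A) (hc : c ∈ 𝒜 j) (m : ℳ (k * d)),
      m.1 = c • (e : M) → sec k m ∈ T := by
    intro j
    induction j using Nat.strong_induction_on with
    | _ j ih =>
      intro e k hjk c hc m hm
      have hmemc : ∀ {v : A}, v ∈ 𝒜 j → v • (e : M) ∈ ℳ (k * d) := fun hv => by
        rw [hjk]; exact SetLike.GradedSMul.smul_mem (A := 𝒜) hv (hdi e)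
      by_cases hj : j ≤ m₀
      · suffices h : ∀ v ∈ 𝒜 0 * Submodule.span R (F j : Set A), ∀ hv : v • (e : M) ∈ ℳ (k * d),
            sec k ⟨_, hv⟩ ∈ T by
          have := h c (hFle j hc) (hmemc hc)
          convert this using 2
          exact Subtype.ext hm
        intro v hv
        induction hv using Submodule.mul_induction_on' with
        | mem_mul_mem p hp q hq =>
          induction hq using Submodule.span_induction generalizing p with
          | mem μ hμ =>
            intro hv
            have hkdiv : (j + di e) / d = k := by rw [← hjk, Nat.mul_div_cancel _ hd]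
            have h0 : sec k ⟨μ • (e : M), hmemc (hFmem j μ hμ)⟩ ∈ T := by
              refine Submodule.subset_span ⟨⟨e, ⟨j, by omega⟩, ⟨μ, hμ⟩⟩, ?_⟩
              show dite _ _ _ = _
              rw [dif_pos (show ((j : ℕ) + di e) / d * d = j + di e by rw [hkdiv, hjk])]
              subst hkdiv
              rfl
            have h0d : p ∈ 𝒜 (0 * d) := by rwa [zero_mul]
            have h1 := hmul 0 k p h0d ⟨μ • (e : M), hmemc (hFmem j μ hμ)⟩
              ⟨(p * μ) • (e : M), by rw [zero_add]; exact hv⟩ (mul_smul _ _ _) h0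
            convert h1 using 1
            refine sect_ext (𝒜 := 𝒜) (ℳ := ℳ) fun x => ?_
            show LocalizedModule.mk _ _ = LocalizedModule.mk _ _
            congr 1
            exact Subtype.ext (by rw [zero_add])
          | zero =>
            intro hv
            have h : (⟨(p * 0) • (e : M), hv⟩ : ℳ (k * d)) = 0 := Subtype.ext (by simp)
            have h0 : sec k 0 = 0 := by
              have := hsec_add k 0 0
              rwa [add_zero, left_eq_add] at this
            rw [h, h0]
            exact zero_mem _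
          | add x y hxF hyF hx hy =>
            intro hv
            have hmem : ∀ w ∈ Submodule.span R (F j : Set A), (p * w) • (e : M) ∈ ℳ (k * d) := fun w hw => by
              refine hmemc ?_
              rw [← zero_add j]
              exact SetLike.mul_mem_graded hp (Submodule.span_le.mpr (hFmem j) hw)
            have h := add_mem (hx p hp (hmem x hxF)) (hy p hp (hmem y hyF))
            rw [← hsec_add] at h
            convert h using 2
            exact Subtype.ext (show (p * (x + y)) • (e : M) = (p * x) • (e : M) + (p * y) • (e : M) by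
              rw [mul_add, add_smul])
          | smul r x _ hx =>
            intro hv
            have := hx (r • p) (Submodule.smul_mem _ r hp) (by rwa [smul_mul_assoc, ← mul_smul_comm])
            convert this using 2
            exact Subtype.ext (show (p * r • x) • (e : M) = (r • p * x) • (e : M) by
              rw [smul_mul_assoc, mul_smul_comm])
        | add x hxm y hym hx hy =>
          intro hv
          have hmem : ∀ w ∈ 𝒜 0 * Submodule.span R (F j : Set A), w • (e : M) ∈ ℳ (k * d) := fun w hw => by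
            refine hmemc ?_
            refine (Submodule.mul_le.mpr fun p hp q hq => ?_ : 𝒜 0 * Submodule.span R (F j : Set A) ≤ 𝒜 j) hw
            rw [← zero_add j]
            exact SetLike.mul_mem_graded hp (Submodule.span_le.mpr (hFmem j) hq)
          have h := add_mem (hx (hmem x hxm)) (hy (hmem y hym))
          rw [← hsec_add] at h
          convert h using 2
          exact Subtype.ext (add_smul _ _ _)
      · have hc' : c ∈ Ideal.span (Set.range fun x : s => (x : A) ^ d) := hN (hm₀ j (by omega) c hc)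
        obtain ⟨b, hb⟩ := (Submodule.mem_span_range_iff_exists_fun A).mp hc'
        have hcsum : c = ∑ x : s, if deg x * d ≤ j then
            (decompose 𝒜 (b x) (j - deg x * d) : A) * (x : A) ^ d else 0 := by
          conv_lhs => rw [← decompose_of_mem_same 𝒜 hc, ← hb]
          rw [decompose_sum, DFinsupp.finsetSum_apply, AddSubmonoidClass.coe_finsetSum]
          refine Finset.sum_congr rfl fun x _ => ?_
          rw [smul_eq_mul]
          exact GrBasics.decompose_mul_mem 𝒜
            (by simpa [smul_eq_mul, mul_comm] using SetLike.pow_mem_graded d (hmem x x.2)) (b x) j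
        let t : s → ℳ (k * d) := fun x => if h : deg x * d ≤ j then
            ⟨((decompose 𝒜 (b x) (j - deg x * d) : A) * (x : A) ^ d) • (e : M), hmemc (by
              have := SetLike.mul_mem_graded (SetLike.coe_mem (decompose 𝒜 (b x) (j - deg x * d)))
                (show (x : A) ^ d ∈ 𝒜 (deg x * d) by
                  simpa [smul_eq_mul, mul_comm] using SetLike.pow_mem_graded d (hmem x x.2))
              rwa [Nat.sub_add_cancel h] at this)⟩ else 0
        have hmt : m = ∑ x, t x := Subtype.ext (by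
          rw [hm, hcsum, Finset.sum_smul, AddSubmonoidClass.coe_finsetSum]
          refine Finset.sum_congr rfl fun x _ => ?_
          by_cases h : deg x * d ≤ j
          · simp [t, h]
          · simp [t, h])
        rw [hmt, show sec k (∑ x, t x) = ∑ x, sec k (t x) from
          map_sum (AddMonoidHom.mk' (sec k) (hsec_add k)) _ _]
        refine Submodule.sum_mem _ fun x _ => ?_
        by_cases h : deg x * d ≤ j
        · have hkx : deg x * d ≤ k * d := by omega
          obtain ⟨r, hr⟩ := Nat.exists_eq_add_of_le (Nat.le_of_mul_le_mul_right hkx hd)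
          subst hr
          have hjr : r * d = (j - deg x * d) + di e := by rw [add_mul] at hjk; omega
          have hlt : j - deg x * d < j := by
            have : 0 < deg x * d := Nat.mul_pos (hpos x x.2) hd
            omega
          have h1 := ih _ hlt e r hjr _ (SetLike.coe_mem (decompose 𝒜 (b x) (j - deg x * d)))
            ⟨_, hjr ▸ SetLike.GradedSMul.smul_mem (A := 𝒜) (SetLike.coe_mem _) (hdi e)⟩ rfl
          refine hmul (deg x) r ((x : A) ^ d)
            (by simpa [smul_eq_mul, mul_comm] using SetLike.pow_mem_graded d (hmem x x.2)) _ (t x) ?_ h1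
          simp only [t, dif_pos h]
          rw [mul_comm, mul_smul]
        · have h0 : sec k 0 = 0 := by
            have := hsec_add k 0 0
            rwa [add_zero, left_eq_add] at this
          simp only [t, dif_neg h, h0, zero_mem]
  refine ⟨⟨Finset.univ.image gen, ?_⟩⟩
  rw [Finset.coe_image, Finset.coe_univ, Set.image_univ, eq_top_iff]
  rintro q -
  obtain ⟨k, i, m, hm, hi, hq⟩ := exists_frac_basicOpen 𝒜 ℳ 0 hd hf
    (show GrTilde.sect 𝒜 ℳ 0 (op (ProjectiveSpectrum.basicOpen 𝒜 f)) from q)
  obtain rfl : i = k * d := by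
    have : (i : ℤ) = ((k * d : ℕ) : ℤ) := by push_cast; omega
    exact_mod_cast this
  have hfn : f ^ n • m ∈ ℳ ((n + k) * d) := by
    rw [add_mul]
    exact SetLike.GradedSMul.smul_mem (A := 𝒜)
      (by simpa [smul_eq_mul] using SetLike.pow_mem_graded n hf : f ^ n ∈ 𝒜 (n * d)) hm
  have hqe : q = sec (n + k) ⟨_, hfn⟩ := sect_ext (𝒜 := 𝒜) (ℳ := ℳ) fun x => by
    refine (hq x.1 x.2).trans ?_
    show _ = LocalizedModule.mk _ _
    rw [LocalizedModule.mk_eq]
    exact ⟨1, by simp only [one_smul, Submonoid.smul_def, smul_smul, ← pow_add, Nat.add_comm]⟩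
  rw [hqe]
  have hin : f ^ n • m ∈ Submodule.span A (E : Set M) := by
    rw [← hEspan]
    exact Submodule.subset_span (Set.mem_iUnion₂.mpr ⟨(n + k) * d, by
      show n ≤ (n + k) * d
      exact (Nat.le_add_right n k).trans (Nat.le_mul_of_pos_right _ hd), hfn⟩)
  obtain ⟨c, hc⟩ := (Submodule.mem_span_range_iff_exists_fun A).mp
    (show f ^ n • m ∈ Submodule.span A (Set.range fun e : E => (e : M)) by simpa using hin)
  let t : E → ℳ ((n + k) * d) := fun e => if h : di e ≤ (n + k) * d then
    ⟨(decompose 𝒜 (c e) ((n + k) * d - di e) : A) • (e : M), by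
      have := SetLike.GradedSMul.smul_mem (A := 𝒜) (SetLike.coe_mem (decompose 𝒜 (c e) ((n + k) * d - di e))) (hdi e)
      rwa [vadd_eq_add, Nat.sub_add_cancel h] at this⟩ else 0
  have hsum : (⟨_, hfn⟩ : ℳ ((n + k) * d)) = ∑ e, t e := by
    refine Subtype.ext ?_
    rw [AddSubmonoidClass.coe_finsetSum]
    show f ^ n • m = _
    refine (DirectSum.decompose_of_mem_same ℳ hfn).symm.trans ?_
    rw [← hc, decompose_sum, DFinsupp.finsetSum_apply, AddSubmonoidClass.coe_finsetSum]
    refine Finset.sum_congr rfl fun e _ => ?_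
    conv_lhs => rw [← DirectSum.sum_support_decompose 𝒜 (c e), Finset.sum_smul, decompose_sum,
      DFinsupp.finsetSum_apply, AddSubmonoidClass.coe_finsetSum]
    by_cases h : di e ≤ (n + k) * d
    · simp only [t, dif_pos h]
      rw [Finset.sum_eq_single ((n + k) * d - di e)]
      · have := SetLike.GradedSMul.smul_mem (A := 𝒜)
          (SetLike.coe_mem (decompose 𝒜 (c e) ((n + k) * d - di e))) (hdi e)
        rw [vadd_eq_add, Nat.sub_add_cancel h] at this
        exact DirectSum.decompose_of_mem_same ℳ this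
      · intro i _ hi
        exact DirectSum.decompose_of_mem_ne ℳ (SetLike.GradedSMul.smul_mem (A := 𝒜) (SetLike.coe_mem _) (hdi e))
          (by rw [vadd_eq_add]; omega)
      · intro h'
        rw [DFinsupp.notMem_support_iff.mp h']
        simp
    · simp only [t, dif_neg h, ZeroMemClass.coe_zero]
      exact Finset.sum_eq_zero fun i _ => DirectSum.decompose_of_mem_ne ℳ
        (SetLike.GradedSMul.smul_mem (A := 𝒜) (SetLike.coe_mem _) (hdi e)) (by rw [vadd_eq_add]; omega)
  rw [hsum, show sec (n + k) (∑ e, t e) = ∑ e, sec (n + k) (t e) from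
    map_sum (AddMonoidHom.mk' (sec (n + k)) (hsec_add (n + k))) _ _]
  refine Submodule.sum_mem _ fun e _ => ?_
  by_cases h : di e ≤ (n + k) * d
  · refine main ((n + k) * d - di e) e (n + k) (by omega) (decompose 𝒜 (c e) ((n + k) * d - di e) : A)
      (SetLike.coe_mem _) (t e) ?_
    simp only [t, dif_pos h]
  · have h0 : sec (n + k) 0 = 0 := by
      have := hsec_add (n + k) 0 0
      rwa [add_zero, left_eq_add] at this
    simp only [t, dif_neg h, h0, zero_mem]

/-- `M~` is of finite type when `M` is finitely generated in high degrees. -/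
theorem isFT_tilde (hfg : (HomogeneousIdeal.irrelevant 𝒜).toIdeal.FG)
    (hTF : ∃ n : ℕ, (Submodule.span A (⋃ k ∈ Set.Ici n, (ℳ k : Set M))).FG) :
    CohB1.IsFT (GrTilde.tilde 𝒜 ℳ 0) := by
  have := isQuasicoherent_tilde 𝒜 ℳ 0
  obtain ⟨s, hs, hsp⟩ := GrBasics.exists_finset_span_eq_irrelevant 𝒜 hfg
  choose! deg hpos hmem using hs
  refine QCohLib.isFiniteType_of_affine_cover _
    (fun e : (s : Set A) => ⟨Proj.basicOpen 𝒜 (e : A),
      Proj.isAffineOpen_basicOpen 𝒜 _ (hmem e e.2) (hpos e e.2)⟩) (fun x => ?_)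
    (fun e => finite_sections_tilde 𝒜 ℳ hfg hTF (hpos e e.2) (hmem e e.2))
  by_contra hc
  push Not at hc
  refine (x : ProjectiveSpectrum 𝒜).not_irrelevant_le ?_
  show (HomogeneousIdeal.irrelevant 𝒜).toIdeal ≤ _
  rw [hsp, Ideal.span_le]
  exact fun e he => not_not.mp (hc ⟨e, he⟩)

end Groth.Agent.ProjTwist
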