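import Groth.Agent.ProjTwist.Generated
import Groth.Agent.ProjTwist.Tensor
import Groth.Agent.ProjGamma.Reg
import Mathlib.RingTheory.Finiteness.Defs

/-!
# `M(r)~` is locally spanned by finitely many homogeneous elements
-/

set_option autoImplicit false
universe u
open CategoryTheory CategoryTheory.Limits AlgebraicGeometry Opposite TopologicalSpace DirectSum

namespace Groth.Agent.ProjTwist

set_option synthInstance.maxHeartbeats 400000
set_option maxHeartbeats 1600000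

variable {R A : Type u} [CommRing R] [CommRing A] [Algebra R A] {𝒜 : ℕ → Submodule R A} [GradedAlgebra 𝒜]
variable {M : Type u} [AddCommGroup M] [Module R M] [Module A M] {ℳ : ℕ → Submodule R M}
  [DirectSum.Decomposition ℳ] [SetLike.GradedSMul 𝒜 ℳ]

/-- A finitely generated graded module has a finite homogeneous generating family. -/
theorem exists_homogeneous_generators [hM : Module.Finite A M] :
    ∃ (k : ℕ) (e : Fin k → M) (d : Fin k → ℕ), (∀ i, e i ∈ ℳ (d i)) ∧ Submodule.span A (Set.range e) = ⊤ := by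
  classical
  obtain ⟨S, hS⟩ := hM.fg_top
  let T : Finset (Σ v : M, ℕ) := S.sigma fun v => (decompose ℳ v).support
  let q := T.equivFin.symm
  refine ⟨T.card, fun i => (decompose ℳ (q i).1.1 (q i).1.2 : M), fun i => (q i).1.2,
    fun i => SetLike.coe_mem _, ?_⟩
  rw [eq_top_iff, ← hS, Submodule.span_le]
  intro v hv
  show v ∈ Submodule.span A _
  rw [← DirectSum.sum_support_decompose ℳ v]
  refine Submodule.sum_mem _ fun n hn => Submodule.subset_span ⟨q.symm ⟨⟨v, n⟩, Finset.mem_sigma.mpr ⟨hv, hn⟩⟩, ?_⟩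
  exact congrArg (fun p : T => (decompose ℳ p.1.1 p.1.2 : M)) (q.apply_symm_apply _)

/-- A homogeneous element is a homogeneous combination of homogeneous generators. -/
theorem exists_sum_homogeneous {k : ℕ} {e : Fin k → M} {d : Fin k → ℕ} (he : ∀ i, e i ∈ ℳ (d i))
    (hspan : Submodule.span A (Set.range e) = ⊤) {N : ℕ} {v : M} (hv : v ∈ ℳ N) (hN : ∀ i, d i ≤ N) :
    ∃ c : Fin k → A, (∀ i, c i ∈ 𝒜 (N - d i)) ∧ v = ∑ i, c i • e i := by
  classical
  obtain ⟨c, hc⟩ := (Submodule.mem_span_range_iff_exists_fun A).mp (hspan ▸ Submodule.mem_top : v ∈ Submodule.span A (Set.range e))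
  refine ⟨fun i => (decompose 𝒜 (c i) (N - d i) : A), fun i => SetLike.coe_mem _, ?_⟩
  let π : M →+ M := AddMonoidHom.mk' (fun w => (decompose ℳ w N : M))
    (fun a b => by rw [decompose_add, DirectSum.add_apply, Submodule.coe_add])
  have hπ : ∀ i, π (c i • e i) = (decompose 𝒜 (c i) (N - d i) : A) • e i := by
    intro i
    conv_lhs => rw [← DirectSum.sum_support_decompose 𝒜 (c i), Finset.sum_smul, map_sum]
    rw [Finset.sum_eq_single (N - d i)]
    · have hm : (decompose 𝒜 (c i) (N - d i) : A) • e i ∈ ℳ N := by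
        have := SetLike.GradedSMul.smul_mem (A := 𝒜) (SetLike.coe_mem (decompose 𝒜 (c i) (N - d i))) (he i)
        rwa [vadd_eq_add, Nat.sub_add_cancel (hN i)] at this
      exact DirectSum.decompose_of_mem_same ℳ hm
    · intro j _ hj
      exact DirectSum.decompose_of_mem_ne ℳ
        (SetLike.GradedSMul.smul_mem (A := 𝒜) (SetLike.coe_mem (decompose 𝒜 (c i) j)) (he i))
        (by rw [vadd_eq_add]; intro h; exact hj (by omega))
    · intro h
      rw [DFinsupp.notMem_support_iff.mp h, ZeroMemClass.coe_zero, zero_smul, map_zero]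
  have h1 : π v = v := DirectSum.decompose_of_mem_same ℳ hv
  rw [← h1, ← hc, map_sum]
  exact Finset.sum_congr rfl fun i _ => hπ i

omit [DirectSum.Decomposition ℳ] in
/-- The standard degree-`n` sections. -/
theorem mem_pow_smul {g : A} (hg : g ∈ 𝒜 1) {d n : ℕ} {e : M} (he : e ∈ ℳ d) (hd : d ≤ n) :
    g ^ (n - d) • e ∈ ℳ n := by
  have h := SetLike.GradedSMul.smul_mem (A := 𝒜)
    (ProjGamma.pow_mem_deg hg (n - d)) he
  rwa [vadd_eq_add, Nat.sub_add_cancel hd] at h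

/-- Local form of the sections of `M(r)~`. -/
theorem exists_local_combination {C : ProjGamma.Cover 𝒜} {k : ℕ} {e : Fin k → M} {d : Fin k → ℕ}
    (he : ∀ i, e i ∈ ℳ (d i)) (hspan : Submodule.span A (Set.range e) = ⊤) {n : ℕ} (hn : ∀ i, d i ≤ n)
    {m r : ℤ} (hr : (n : ℤ) + m = r) (U : (Proj 𝒜).Opens) (t : GrTilde.sect 𝒜 ℳ r (op U))
    (x : ProjectiveSpectrum 𝒜) (hx : x ∈ U) :
    ∃ (V : (Proj 𝒜).Opens) (h : V ≤ U), x ∈ V ∧ ∃ (g : C.gens) (P Q : ℕ) (c : Fin k → 𝒜 P) (D : 𝒜 Q)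
      (hD : ∀ y : V, D.1 ∉ y.1.asHomogeneousIdeal), (P : ℤ) = Q + m ∧ ∀ y : V,
        (t.1 ⟨y.1, h y.2⟩).1 =
          LocalizedModule.mk (∑ i, (c i : A) • ((g : A) ^ (n - d i) • e i)) ⟨D.1, hD y⟩ := by
  obtain ⟨g, hg, hgx⟩ := C.exists_notMem x
  obtain ⟨V₀, hxV₀, ι, i₀, j₀, a, s, hs, hdeg, hw⟩ := t.2 ⟨x, hx⟩
  let V : (Proj 𝒜).Opens := V₀ ⊓ Proj.basicOpen 𝒜 g
  have hg1 := C.deg_one g hg
  refine ⟨V, inf_le_left.trans (leOfHom ι), ⟨hxV₀, hgx⟩, ⟨g, hg⟩, ?_⟩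
  rcases hdeg with hdeg | hdeg
  · -- `g ^ n • a` in terms of the generators
    have hN : g ^ n • a.1 ∈ ℳ (n + i₀) :=
      SetLike.GradedSMul.smul_mem (A := 𝒜) (ProjGamma.pow_mem_deg hg1 n) a.2
    obtain ⟨c, hc, hsum⟩ := exists_sum_homogeneous (𝒜 := 𝒜) he hspan hN fun i => (hn i).trans (Nat.le_add_right _ _)
    have hP : ∀ i, c i * g ^ d i ∈ 𝒜 (n + i₀) := fun i => by
      have := SetLike.mul_mem_graded (hc i) (ProjGamma.pow_mem_deg hg1 (d i))
      rwa [Nat.sub_add_cancel ((hn i).trans (Nat.le_add_right _ _))] at this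
    have hQ : s.1 * (g ^ n * g ^ n) ∈ 𝒜 (j₀ + (n + n)) := SetLike.mul_mem_graded s.2
      (SetLike.mul_mem_graded (ProjGamma.pow_mem_deg hg1 n) (ProjGamma.pow_mem_deg hg1 n))
    refine ⟨n + i₀, j₀ + (n + n), fun i => ⟨_, hP i⟩, ⟨_, hQ⟩, fun y => ProjGamma.notMem_mul (hs ⟨y.1, y.2.1⟩)
      (ProjGamma.notMem_mul (ProjGamma.notMem_pow y.2.2 n) (ProjGamma.notMem_pow y.2.2 n)),
      by push_cast; omega, fun y => (hw ⟨y.1, y.2.1⟩).trans ?_⟩
    have hcomb : ∑ i, (c i * g ^ d i) • (g ^ (n - d i) • e i) = (g ^ n * g ^ n) • a.1 := by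
      rw [mul_smul, hsum, Finset.smul_sum]
      refine Finset.sum_congr rfl fun i _ => ?_
      rw [smul_smul, smul_smul, mul_assoc, ← pow_add, Nat.add_sub_cancel' (hn i), mul_comm]
    rw [hcomb, LocalizedModule.mk_eq]
    refine ⟨1, ?_⟩
    simp only [one_smul, Submonoid.smul_def, smul_smul]
  · refine ⟨(m).toNat, (-m).toNat, fun _ => 0, ⟨g ^ (-m).toNat, ProjGamma.pow_mem_deg hg1 _⟩,
      fun y => ProjGamma.notMem_pow y.2.2 _, by omega, fun y => (hw ⟨y.1, y.2.1⟩).trans ?_⟩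
    simp [hdeg]

omit [DirectSum.Decomposition ℳ] in
theorem coe_sum_sect {r : ℤ} {U : (Opens (ProjectiveSpectrum.top 𝒜))ᵒᵖ} {ι : Type*} (S : Finset ι)
    (f : ι → GrTilde.sect 𝒜 ℳ r U) (y : U.unop) :
    ((∑ i ∈ S, f i : GrTilde.sect 𝒜 ℳ r U).1 y).1 = ∑ i ∈ S, ((f i).1 y).1 :=
  map_sum (AddMonoidHom.mk' (fun s : GrTilde.sect 𝒜 ℳ r U => (s.1 y).1) fun a b => rfl) f S

theorem mk_sum {x : ProjectiveSpectrum 𝒜} {ι : Type*} (S : Finset ι) (v : ι → M)
    (D : x.asHomogeneousIdeal.toIdeal.primeCompl) :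
    (LocalizedModule.mk (∑ i ∈ S, v i) D : GrTilde.LocMod 𝒜 (M := M) x) = ∑ i ∈ S, LocalizedModule.mk (v i) D := by
  exact map_sum (AddMonoidHom.mk' (fun w : M => (LocalizedModule.mk w D : GrTilde.LocMod 𝒜 (M := M) x))
    fun a b => by
      rw [LocalizedModule.mk_add_mk, LocalizedModule.mk_eq]
      exact ⟨1, by simp only [one_smul, Submonoid.smul_def, Submonoid.coe_mul, smul_add, mul_smul]⟩) v S

/-- `M(n)~` is a quotient of a finite free module for large `n`. -/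
theorem exists_epi_free_tilde [Module.Finite A M] (C : ProjGamma.Cover 𝒜) :
    ∃ n₀ : ℕ, ∀ n : ℕ, n₀ ≤ n → ∃ (k : ℕ) (p : FlatMod.freeMod (Proj 𝒜) k ⟶ GrTilde.tilde 𝒜 ℳ (n : ℤ)), Epi p := by
  classical
  obtain ⟨k, e, d, he, hspan⟩ := exists_homogeneous_generators (A := A) (ℳ := ℳ)
  refine ⟨Finset.univ.sup d, fun n hn => ?_⟩
  have hd : ∀ i, d i ≤ n := fun i => (Finset.le_sup (Finset.mem_univ i)).trans hn
  let q := Fintype.equivFin (C.gens × Fin k)
  let z : Fin (Fintype.card (C.gens × Fin k)) → ℳ n := fun l =>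
    ⟨_, mem_pow_smul (𝒜 := 𝒜) (C.deg_one _ (q.symm l).1.2) (he (q.symm l).2) (hd (q.symm l).2)⟩
  refine ⟨_, exists_epi_of_locSpan (GrTilde.tilde 𝒜 ℳ (n : ℤ))
    (fun l => (GrTilde.globalOf 𝒜 ℳ (z l) : GrTilde.sect 𝒜 ℳ (n : ℤ) (op ⊤))) ?_⟩
  intro U t x hx
  obtain ⟨V, h, hxV, g, P, Q, c, D, hD, hPQ, hval⟩ :=
    exists_local_combination (C := C) (m := 0) he hspan hd (add_zero _) U t x hx
  obtain rfl : P = Q := by omega
  refine ⟨V, h, hxV, ?_⟩
  let rc : Fin k → Twist.O (𝒜 := 𝒜) (op V) := fun i => ProjGamma.regFrac V (c i).1 D.1 (c i).2 D.2 hD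
  let u : Fin k → GrTilde.sect 𝒜 ℳ (n : ℤ) (op V) := fun i =>
    GrTilde.res 𝒜 ℳ (n : ℤ) (homOfLE (le_top : V ≤ ⊤)).op (GrTilde.globalOf 𝒜 ℳ (z (q (g, i))))
  let w : GrTilde.sect 𝒜 ℳ (n : ℤ) (op V) := ∑ i, rc i • u i
  have hw : (GrTilde.tilde 𝒜 ℳ (n : ℤ)).presheaf.map (homOfLE h).op t = w := by
    refine sect_ext (𝒜 := 𝒜) (ℳ := ℳ) fun y => (hval y).trans ?_
    refine (mk_sum _ _ _).trans (Eq.trans ?_ (coe_sum_sect (U := op V) _ _ y).symm)
    refine Finset.sum_congr rfl fun i _ => Eq.symm ((smul_val (U := V) _ _ y).trans ?_)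
    refine (congrArg (· • _) (ProjGamma.rval_regFrac V (c i).1 D.1 (c i).2 D.2 hD y.1 y.2)).trans ?_
    show Localization.mk (c i).1 _ • LocalizedModule.mk (z (q (g, i))).1 ⟨1, notMem_one 𝒜 y.1⟩ = _
    rw [LocalizedModule.mk_smul_mk]
    congr 1
    · simp [z]
    · exact Subtype.ext (mul_one _)
  rw [hw]
  refine Submodule.sum_mem _ fun i _ => ?_
  exact Submodule.smul_mem _ _ (Submodule.subset_span ⟨q (g, i), rfl⟩)

/-- Multiplication `O(m) → M(r)~` by an element of degree `n`. -/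
noncomputable def mulElt {n : ℕ} {m r : ℤ} (hr : (n : ℤ) + m = r) (z : ℳ n) :
    Twist.twist 𝒜 m ⟶ GrTilde.tilde 𝒜 ℳ r :=
  ⟨PresheafOfModules.homMk
    { app := fun U => AddCommGrpCat.ofHom (AddMonoidHom.mk'
        (fun p => pairSect (U := U) hr (GrTilde.res 𝒜 ℳ (n : ℤ) (homOfLE (le_top (a := U.unop))).op
          (GrTilde.globalOf 𝒜 ℳ z)) p)
        (fun p p' => sect_ext (𝒜 := 𝒜) (ℳ := ℳ) fun y => add_smul _ _ _))
      naturality := fun {U U'} i => by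
        ext p
        exact sect_ext (𝒜 := 𝒜) (ℳ := ℳ) fun y => rfl }
    (fun U c p => sect_ext (𝒜 := 𝒜) (ℳ := ℳ) fun y => by
      refine Eq.trans ?_ (smul_val (U := U.unop) c _ y).symm
      exact (congrArg (fun v => v • _) (smulT_val (U := U.unop) c p y)).trans (mul_smul _ _ _))⟩

omit [DirectSum.Decomposition ℳ] in
theorem mulElt_app {n : ℕ} {m r : ℤ} (hr : (n : ℤ) + m = r) (z : ℳ n) (V : (Proj 𝒜).Opens)
    (p : Twist.sectN (𝒜 := 𝒜) m (op V)) (y : V) :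
    ((show GrTilde.sect 𝒜 ℳ r (op V) from (mulElt hr z).app V p).1 y).1 =
      (p.1 y).1 • LocalizedModule.mk z.1 ⟨1, notMem_one 𝒜 y.1⟩ := rfl

/-- For large `n`, `M~` is a quotient of a finite sum of copies of `O(-n)`. -/
theorem exists_epi_negative_twists [Module.Finite A M] (C : ProjGamma.Cover 𝒜) :
    ∃ n₀ : ℕ, ∀ n : ℕ, n₀ ≤ n →
      ∃ (k : ℕ) (p : (∐ fun _ : Fin k => Twist.twist 𝒜 (-(n : ℤ))) ⟶ GrTilde.tilde 𝒜 ℳ 0), Epi p := by
  classical
  obtain ⟨k, e, d, he, hspan⟩ := exists_homogeneous_generators (A := A) (ℳ := ℳ)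
  refine ⟨Finset.univ.sup d, fun n hn => ?_⟩
  have hd : ∀ i, d i ≤ n := fun i => (Finset.le_sup (Finset.mem_univ i)).trans hn
  let q := Fintype.equivFin (C.gens × Fin k)
  let z : Fin (Fintype.card (C.gens × Fin k)) → ℳ n := fun l =>
    ⟨_, mem_pow_smul (𝒜 := 𝒜) (C.deg_one _ (q.symm l).1.2) (he (q.symm l).2) (hd (q.symm l).2)⟩
  have hr : (n : ℤ) + -(n : ℤ) = 0 := by omega
  refine ⟨_, Sigma.desc fun l => mulElt hr (z l), ⟨fun {T} f f' hff => ?_⟩⟩
  have hi : ∀ l, mulElt hr (z l) ≫ f = mulElt hr (z l) ≫ f' := fun l => by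
    simpa using congrArg
      (fun p => Sigma.ι (fun _ : Fin (Fintype.card (C.gens × Fin k)) => Twist.twist 𝒜 (-(n : ℤ))) l ≫ p) hff
  apply Scheme.Modules.hom_ext
  intro U
  ext t
  refine TopCat.Presheaf.section_ext (⟨T.presheaf, Scheme.Modules.isSheaf T⟩ : TopCat.Sheaf Ab (Proj 𝒜)) U _ _ ?_
  intro (x : ProjectiveSpectrum 𝒜) hx
  obtain ⟨V, hVU, hxV, g, P, Q, c, D, hD, hPQ, hval⟩ :=
    exists_local_combination (C := C) he hspan hd hr U t x hx
  have hw : (GrTilde.tilde 𝒜 ℳ 0).presheaf.map (homOfLE hVU).op t =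
      ∑ i, (mulElt hr (z (q (g, i)))).app V (fracSect V (c i) D hD hPQ) := by
    refine sect_ext (𝒜 := 𝒜) (ℳ := ℳ) fun y => (hval y).trans ?_
    refine (mk_sum _ _ _).trans (Eq.trans ?_ (coe_sum_sect (U := op V) _ _ y).symm)
    refine Finset.sum_congr rfl fun i _ => Eq.symm ((mulElt_app hr _ V _ y).trans ?_)
    show Localization.mk (c i).1 _ • LocalizedModule.mk _ _ = _
    rw [LocalizedModule.mk_smul_mk]
    congr 1
    · simp [z]
    · exact Subtype.ext (mul_one _)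
  have key : f.app V ((GrTilde.tilde 𝒜 ℳ 0).presheaf.map (homOfLE hVU).op t) =
      f'.app V ((GrTilde.tilde 𝒜 ℳ 0).presheaf.map (homOfLE hVU).op t) := by
    rw [hw]
    simp only [map_sum]
    exact Finset.sum_congr rfl fun i _ =>
      congrArg (fun p : Twist.twist 𝒜 (-(n : ℤ)) ⟶ T => p.app V (fracSect V (c i) D hD hPQ)) (hi (q (g, i)))
  have e1 := ConcreteCategory.congr_hom (f.mapPresheaf.naturality (homOfLE hVU).op) t
  have e2 := ConcreteCategory.congr_hom (f'.mapPresheaf.naturality (homOfLE hVU).op) t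
  change (T.presheaf.germ U x hx).hom (f.app U t) = (T.presheaf.germ U x hx).hom (f'.app U t)
  exact ((TopCat.Presheaf.germ_res_apply T.presheaf (homOfLE hVU) x hxV (f.app U t)).symm.trans
    (congrArg _ ((e1.symm.trans key).trans e2))).trans
    (TopCat.Presheaf.germ_res_apply T.presheaf (homOfLE hVU) x hxV (f'.app U t))

end Groth.Agent.ProjTwist
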